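import Groth.Agent.AffDual.Sections
import Groth.Agent.DRingKP.Nilp
import Groth.Agent.DRingKP.RHomProj
import Groth.Agent.DTenLib.Monoidal
import Groth.Prelude.Def_DTen3
import Mathlib.CategoryTheory.Localization.Adjunction

/-!
The derived category of a ring is closed.
-/

set_option autoImplicit false
set_option linter.style.haveILetI false
set_option backward.isDefEq.respectTransparency false
set_option backward.isDefEq.respectTransparency.types false
universe u

namespace Groth.Agent.TrivDual

open CategoryTheory Limits MonoidalCategory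

attribute [local instance] HasDerivedCategory.standard

variable {A : Type u} [CommRing A]

/-- `- ⊗^L L` is a left adjoint -/
theorem hasRHom [DTen.HasLTen A] : DTen.HasRHom A where
  isLeftAdjoint L := by
    obtain ⟨P, c, hP, hPf, -, hc⟩ :=
      DRingKP.exists_kProj_kFlat_resolution (DerivedCategory.Q.objPreimage L)
    haveI := hP
    haveI := hc
    let eL : DerivedCategory.Q.obj P ≅ L :=
      asIso (DerivedCategory.Q.map c) ≪≫ DerivedCategory.Q.objObjPreimageIso L
    let W := HomologicalComplex.quasiIso (ModuleCat.{u} A) (ComplexShape.up ℤ)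
    let G : DRing.Cx A ⥤ DRing.Cx A := tensorRight P
    let F : DRing.Cx A ⥤ DRing.Cx A := DRing.homCxFunctor P
    have hG : W.IsInvertedBy (G ⋙ DerivedCategory.Q) := fun X Y f hf => by
      haveI : QuasiIso f := hf
      haveI := DRingKP.quasiIso_whiskerRight hPf f
      exact (inferInstance : IsIso (DerivedCategory.Q.map (f ▷ P)))
    have hF : W.IsInvertedBy (F ⋙ DerivedCategory.Q) := fun X Y f hf => by
      haveI : QuasiIso f := hf
      haveI : QuasiIso (F.map f) := DRingKP.quasiIso_homCxMap f
      exact (inferInstance : IsIso (DerivedCategory.Q.map (F.map f)))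
    let Gd := Localization.lift (G ⋙ DerivedCategory.Q) hG DerivedCategory.Q
    let Fd := Localization.lift (F ⋙ DerivedCategory.Q) hF DerivedCategory.Q
    letI : CatCommSq G DerivedCategory.Q DerivedCategory.Q Gd :=
      ⟨(Localization.fac (G ⋙ DerivedCategory.Q) hG DerivedCategory.Q).symm⟩
    letI : CatCommSq F DerivedCategory.Q DerivedCategory.Q Fd :=
      ⟨(Localization.fac (F ⋙ DerivedCategory.Q) hF DerivedCategory.Q).symm⟩
    let adj : Gd ⊣ Fd :=
      (AffDual.tensHomAdj P).localization DerivedCategory.Q W DerivedCategory.Q W Gd Fd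
    haveI : ∀ X, IsIso ((DTen.ε A).app (X, P)) := fun X => DTenLib.isIso_ε_right X hPf
    let e0 : DerivedCategory.Q ⋙ DTen.tensorRightD A (DerivedCategory.Q.obj P) ≅ G ⋙ DerivedCategory.Q :=
      NatIso.ofComponents (fun X => asIso ((DTen.ε A).app (X, P))) fun {X Y} f => by
        have h := (DTen.ε A).naturality (Prod.mkHom f (𝟙 P))
        refine Eq.trans ?_ (h.trans (congrArg (fun t => (DTen.ε A).app (X, P) ≫ DerivedCategory.Q.map t) ?_))
        · exact congrArg (fun t => (DTen.LTen₂ A).map t ≫ _)
            (Prod.ext rfl (DerivedCategory.Q.map_id P).symm)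
        · exact (congrArg (f ▷ P ≫ ·) (MonoidalCategory.whiskerLeft_id Y P)).trans (Category.comp_id _)
    letI : Localization.Lifting DerivedCategory.Q W (G ⋙ DerivedCategory.Q)
        (DTen.tensorRightD A (DerivedCategory.Q.obj P)) := ⟨e0⟩
    let e : Gd ≅ DTen.tensorRightD A L :=
      Localization.liftNatIso DerivedCategory.Q W (G ⋙ DerivedCategory.Q) (G ⋙ DerivedCategory.Q) _ _
        (Iso.refl _) ≪≫ (DTen.LTen A).flip.mapIso eL
    exact (adj.ofNatIsoLeft e).isLeftAdjoint

end Groth.Agent.TrivDual
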