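import Groth.Agent.TrivDual.BC
import Groth.Agent.TrivDual.RHomExist
import Groth.Agent.DTenMon.DivisorD
import Groth.Agent.DTenMon.Instances
import Groth.Agent.DTenPC.EvalTen
import Groth.Agent.DTenLib.Perfect
import Groth.Agent.DRingKP.Tor
import Mathlib.RingTheory.IsTensorProduct

/-!
Trivial duality base change for tor independent push-out squares.
-/

set_option autoImplicit false
set_option linter.style.haveILetI false
set_option linter.unusedSectionVars false
set_option backward.isDefEq.respectTransparency false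
set_option backward.isDefEq.respectTransparency.types false
universe u

namespace Groth.Agent.TrivDual

open CategoryTheory Limits MonoidalCategory TensorProduct
open Groth.Agent.DTenLib Groth.Agent.DTenMon

attribute [local instance] HasDerivedCategory.standard

variable {R A R' A' : Type u} [CommRing R] [CommRing A] [CommRing R'] [CommRing A']
  [Algebra R A] [Algebra R R'] [Algebra A A'] [Algebra R' A'] [Algebra R A'] [IsScalarTower R A A']
  [IsScalarTower R R' A'] [Algebra.IsPushout R A R' A']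

variable (R) in
/-- the unit module, restricted -/
noncomputable def resOne (B : Type u) [CommRing B] [Algebra R B] :
    (DTen.resM (algebraMap R B)).obj (𝟙_ (ModuleCat.{u} B)) ≅ ModuleCat.of R B :=
  resMod B

/-- push-out squares are tensor products -/
theorem isIso_mulMod_of_isPushout
    (h : (algebraMap A A').comp (algebraMap R A) = (algebraMap R' A').comp (algebraMap R R')) :
    IsIso (mulMod h) := by
  let e := resOne R R' ⊗ᵢ resOne R A
  let c := TensorProduct.comm R R' A
  let E := (Algebra.IsPushout.out : IsBaseChange A (IsScalarTower.toAlgHom R R' A').toLinearMap).equiv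
  have he : ∀ x, (show A' from (mulMod h).hom x) = E (c (e.hom.hom x)) := fun x => by
    induction x using TensorProduct.induction_on with
    | zero => exact (map_zero (mulMod h).hom).trans (by simp)
    | tmul b a =>
      change algebraMap A A' a * algebraMap R' A' b = E ((show A from a) ⊗ₜ[R] (show R' from b))
      rw [IsBaseChange.equiv_tmul, Algebra.smul_def]
      rfl
    | add x y hx hy =>
      refine ((mulMod h).hom.map_add x y).trans ?_
      refine (congrArg₂ (fun s t : A' => s + t) hx hy).trans ?_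
      rw [map_add, map_add, map_add]
  refine (ConcreteCategory.isIso_iff_bijective (mulMod h)).2 ?_
  have : (fun x => (show A' from (mulMod h).hom x)) = fun x => E (c (e.hom.hom x)) := funext he
  show Function.Bijective fun x => (show A' from (mulMod h).hom x)
  rw [this]
  exact (E.bijective.comp c.bijective).comp (ConcreteCategory.bijective_of_isIso e.hom)

theorem isIso_γ_of_tor [DTen.HasLTen R] [DTen.HasLTen A] [DTen.HasLTen R'] [DTen.HasLTen A']
    [DTen.HasLTen₃ R] [DTen.HasLTen₃ A] [DTen.HasLTen₃ R'] [DTen.HasLTen₃ A']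
    [DTen.IsSymMonoidal R] [DTen.IsSymMonoidal A] [DTen.IsSymMonoidal R'] [DTen.IsSymMonoidal A']
    [DTen.HasLBase (algebraMap R A)] [DTen.HasResTen (algebraMap R A)] [DTen.ResLegIso (algebraMap R A)]
    [DTen.HasLBase (algebraMap R R')] [DTen.HasResTen (algebraMap R R')] [DTen.ResLegIso (algebraMap R R')]
    [DTen.HasLBase (algebraMap A A')] [DTen.HasResTen (algebraMap A A')] [DTen.ResLegIso (algebraMap A A')]
    (htor : ∀ p : ℕ, 1 ≤ p → Subsingleton (DRing.Tor R p A R'))
    (h : (algebraMap A A').comp (algebraMap R A) = (algebraMap R' A').comp (algebraMap R R')) :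
    IsIso (γ h) := by
  haveI := isIso_mulMod_of_isPushout h
  refine isIso_γ h fun p => ?_
  haveI := htor (p + 1) (by omega)
  exact (ModuleCat.isZero_of_subsingleton
    (((CategoryTheory.Tor (ModuleCat.{u} R) (p + 1)).obj (ModuleCat.of R A)).obj (ModuleCat.of R R'))).of_iso
    (((CategoryTheory.Tor (ModuleCat.{u} R) (p + 1)).mapIso (resOne R A)).app _ ≪≫
      ((CategoryTheory.Tor (ModuleCat.{u} R) (p + 1)).obj _).mapIso (resOne R R'))

/-- tor independent base change -/
theorem cmp_isIso
    (htor : ∀ p : ℕ, 1 ≤ p → Subsingleton (DRing.Tor R p A R'))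
    [DRing.HasLBaseChange (algebraMap R R')] [DRing.HasLBaseChange (algebraMap A A')]
    (adjρ : DRing.LBaseChange (algebraMap R R') ⊣ DRing.restrictD (algebraMap R R'))
    (adjα : DRing.LBaseChange (algebraMap A A') ⊣ DRing.restrictD (algebraMap A A'))
    (h : (algebraMap A A').comp (algebraMap R A) = (algebraMap R' A').comp (algebraMap R R'))
    (K : Dual.D A) : IsIso (TrivBC.cmp adjρ adjα h K) := by
  haveI : DTen.HasLTen R := DTenLib.hasLTen
  haveI : DTen.HasLTen A := DTenLib.hasLTen
  haveI : DTen.HasLTen R' := DTenLib.hasLTen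
  haveI : DTen.HasLTen A' := DTenLib.hasLTen
  haveI : DTen.HasLTen₃ R := DTenLib.hasLTen₃
  haveI : DTen.HasLTen₃ A := DTenLib.hasLTen₃
  haveI : DTen.HasLTen₃ R' := DTenLib.hasLTen₃
  haveI : DTen.HasLTen₃ A' := DTenLib.hasLTen₃
  haveI : DTen.IsSymMonoidal R := DTenMon.isSymMonoidal
  haveI : DTen.IsSymMonoidal A := DTenMon.isSymMonoidal
  haveI : DTen.IsSymMonoidal R' := DTenMon.isSymMonoidal
  haveI : DTen.IsSymMonoidal A' := DTenMon.isSymMonoidal
  haveI := DTenLib.hasLBase (algebraMap R A)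
  haveI := DTenMon.hasResTen (algebraMap R A)
  haveI := DTenMon.resLegIso (algebraMap R A)
  haveI := DTenLib.hasLBase (algebraMap R R')
  haveI := DTenMon.hasResTen (algebraMap R R')
  haveI := DTenMon.resLegIso (algebraMap R R')
  haveI := DTenLib.hasLBase (algebraMap A A')
  haveI := DTenMon.hasResTen (algebraMap A A')
  haveI := DTenMon.resLegIso (algebraMap A A')
  haveI := DTenLib.hasLBase (algebraMap R' A')
  haveI := isIso_γ_of_tor htor h
  exact isIso_cmp h adjρ adjα K

/-- base change of trivial duality against evaluation -/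
theorem bcMap_iff [DTen.HasLTen R] [DTen.HasLTen₃ R] [DTen.IsSymMonoidal R] [DTen.HasRHom R]
    (htor : ∀ p : ℕ, 1 ≤ p → Subsingleton (DRing.Tor R p A R'))
    [DRing.HasLBaseChange (algebraMap R R')] [DRing.HasLBaseChange (algebraMap A A')]
    (adjρ : DRing.LBaseChange (algebraMap R R') ⊣ DRing.restrictD (algebraMap R R'))
    (adjα : DRing.LBaseChange (algebraMap A A') ⊣ DRing.restrictD (algebraMap A A'))
    (h : (algebraMap A A').comp (algebraMap R A) = (algebraMap R' A').comp (algebraMap R R'))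
    {Rφ : Dual.D R ⥤ Dual.D A} (adj : DRing.restrictD (algebraMap R A) ⊣ Rφ)
    {Rφ' : Dual.D R' ⥤ Dual.D A'} (adj' : DRing.restrictD (algebraMap R' A') ⊣ Rφ')
    (K : Dual.D R) (hc : IsIso (TrivBC.cmp adjρ adjα h (Rφ.obj K))) :
    IsIso (TrivBC.bcMap adjρ adjα h adj adj' K hc) ↔
      IsIso (DTen.evalTen ((DRing.restrictD (algebraMap R R')).obj (DTen.unit R')) K
        ((DRing.restrictD (algebraMap R A)).obj (DTen.unit A))) := by
  haveI : DTen.HasLTen A := DTenLib.hasLTen
  haveI : DTen.HasLTen R' := DTenLib.hasLTen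
  haveI : DTen.HasLTen A' := DTenLib.hasLTen
  haveI : DTen.HasLTen₃ A := DTenLib.hasLTen₃
  haveI : DTen.HasLTen₃ R' := DTenLib.hasLTen₃
  haveI : DTen.HasLTen₃ A' := DTenLib.hasLTen₃
  haveI : DTen.IsSymMonoidal A := DTenMon.isSymMonoidal
  haveI : DTen.IsSymMonoidal R' := DTenMon.isSymMonoidal
  haveI : DTen.IsSymMonoidal A' := DTenMon.isSymMonoidal
  haveI := DTenLib.hasLBase (algebraMap R A)
  haveI := DTenMon.hasResTen (algebraMap R A)
  haveI := DTenMon.resLegIso (algebraMap R A)
  haveI := DTenLib.hasLBase (algebraMap R R')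
  haveI := DTenMon.hasResTen (algebraMap R R')
  haveI := DTenMon.resLegIso (algebraMap R R')
  haveI := DTenLib.hasLBase (algebraMap A A')
  haveI := DTenMon.hasResTen (algebraMap A A')
  haveI := DTenMon.resLegIso (algebraMap A A')
  haveI : ∀ X : Dual.D A, IsIso (TrivBC.cmp adjρ adjα h X) := cmp_isIso htor adjρ adjα h
  exact isIso_bcMap_iff h adjρ adjα adj adj' K hc

omit [Algebra A A'] [Algebra R' A'] [Algebra R A'] [IsScalarTower R A A'] [IsScalarTower R R' A']
  [Algebra.IsPushout R A R' A'] [Algebra R R'] in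
variable (R) in
/-- `res (unit B) ≅ B[0]` -/
noncomputable def resUnit (B : Type u) [CommRing B] [Algebra R B] :
    (DRing.restrictD (algebraMap R B)).obj (DTen.unit B) ≅ Dual.inD R B :=
  (DRing.restrictD (algebraMap R B)).mapIso
      ((DerivedCategory.singleFunctorIsoCompQ (ModuleCat.{u} B) 0).app (ModuleCat.of B B)).symm ≪≫ rSM B

/-- perfect case -/
theorem bcMap_isIso_of_perfect (hperf : DRing.IsPerfectModule R A)
    (htor : ∀ p : ℕ, 1 ≤ p → Subsingleton (DRing.Tor R p A R'))
    [DRing.HasLBaseChange (algebraMap R R')] [DRing.HasLBaseChange (algebraMap A A')]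
    (adjρ : DRing.LBaseChange (algebraMap R R') ⊣ DRing.restrictD (algebraMap R R'))
    (adjα : DRing.LBaseChange (algebraMap A A') ⊣ DRing.restrictD (algebraMap A A'))
    (h : (algebraMap A A').comp (algebraMap R A) = (algebraMap R' A').comp (algebraMap R R'))
    {Rφ : Dual.D R ⥤ Dual.D A} (adj : DRing.restrictD (algebraMap R A) ⊣ Rφ)
    {Rφ' : Dual.D R' ⥤ Dual.D A'} (adj' : DRing.restrictD (algebraMap R' A') ⊣ Rφ')
    (K : Dual.D R) (hc : IsIso (TrivBC.cmp adjρ adjα h (Rφ.obj K))) :
    IsIso (TrivBC.bcMap adjρ adjα h adj adj' K hc) := by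
  haveI : DTen.HasLTen R := DTenLib.hasLTen
  haveI : DTen.HasLTen₃ R := DTenLib.hasLTen₃
  haveI : DTen.IsSymMonoidal R := DTenMon.isSymMonoidal
  haveI : DTen.HasRHom R := hasRHom
  obtain ⟨E, a, b, h1, h2, ⟨e⟩⟩ := hperf
  exact (bcMap_iff htor adjρ adjα h adj adj' K hc).2
    (DTenLib.isIso_evalTen_of_source _ K _ ⟨E, a, b, h1, h2, ⟨e ≪≫ (resUnit R A).symm⟩⟩)

/-- pseudo-coherent case -/
theorem bcMap_isIso_of_pseudoCoherent (hpc : DRing.IsPseudoCoherentModule' R A)
    (hfd : DRing.HasFiniteTorDim R R')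
    (htor : ∀ p : ℕ, 1 ≤ p → Subsingleton (DRing.Tor R p A R'))
    [DRing.HasLBaseChange (algebraMap R R')] [DRing.HasLBaseChange (algebraMap A A')]
    (adjρ : DRing.LBaseChange (algebraMap R R') ⊣ DRing.restrictD (algebraMap R R'))
    (adjα : DRing.LBaseChange (algebraMap A A') ⊣ DRing.restrictD (algebraMap A A'))
    (h : (algebraMap A A').comp (algebraMap R A) = (algebraMap R' A').comp (algebraMap R R'))
    {Rφ : Dual.D R ⥤ Dual.D A} (adj : DRing.restrictD (algebraMap R A) ⊣ Rφ)
    {Rφ' : Dual.D R' ⥤ Dual.D A'} (adj' : DRing.restrictD (algebraMap R' A') ⊣ Rφ')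
    (K : Dual.D R) (n : ℤ) [K.IsGE n] (hc : IsIso (TrivBC.cmp adjρ adjα h (Rφ.obj K))) :
    IsIso (TrivBC.bcMap adjρ adjα h adj adj' K hc) := by
  haveI : DTen.HasLTen R := DTenLib.hasLTen
  haveI : DTen.HasLTen₃ R := DTenLib.hasLTen₃
  haveI : DTen.IsSymMonoidal R := DTenMon.isSymMonoidal
  haveI : DTen.HasRHom R := hasRHom
  obtain ⟨d, hd⟩ := hfd
  obtain ⟨U, h1, h2, ⟨e⟩⟩ := (DRingKP.hasTorDimLE_iff R' d).1 hd
  obtain ⟨E, b, h3, h4, ⟨e'⟩⟩ := hpc
  exact (bcMap_iff htor adjρ adjα h adj adj' K hc).2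
    (DTenPC.isIso_evalTen (a := -(d : ℤ)) (b := 0) _ _ K ⟨U, h1, h2, ⟨e ≪≫ (resUnit R R').symm⟩⟩
      ⟨E, b, h3, h4, ⟨e' ≪≫ (resUnit R A).symm⟩⟩ n inferInstance)

end Groth.Agent.TrivDual
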