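import Groth.Agent.TrivDual.Cmp
import Groth.Prelude.Def_DTen3

/-!
The base change map of trivial duality against the evaluation map.
-/

set_option autoImplicit false
set_option linter.style.haveILetI false
set_option linter.unusedSectionVars false
set_option backward.isDefEq.respectTransparency false
set_option backward.isDefEq.respectTransparency.types false
universe u

namespace Groth.Agent.TrivDual

open CategoryTheory Limits MonoidalCategory
open Groth.Agent.DTenLib Groth.Agent.DTenMon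

attribute [local instance] HasDerivedCategory.standard
attribute [local instance] monoidalD lBaseMonoidal restrictLax

section RHom

variable {R A : Type u} [CommRing R] [CommRing A] (φ : R →+* A)
  [DTen.HasLTen R] [DTen.HasLTen A] [DTen.HasLTen₃ R] [DTen.HasLTen₃ A]
  [DTen.IsSymMonoidal R] [DTen.IsSymMonoidal A] [DTen.HasLBase φ] [DTen.HasResTen φ] [DTen.ResLegIso φ]
  [DTen.HasRHom R] {Rφ : Dual.D R ⥤ Dual.D A} (adj : DRing.restrictD φ ⊣ Rφ)

/-- `res R^φ K ⟶ RHom_R(A, K)` -/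
noncomputable def ω (K : Dual.D R) :
    (DRing.restrictD φ).obj (Rφ.obj K) ⟶
      (DTen.RHomR R ((DRing.restrictD φ).obj (𝟙_ (Dual.D A)))).obj K :=
  (DTen.rhomAdj R ((DRing.restrictD φ).obj (𝟙_ (Dual.D A)))).homEquiv _ _
    (actR φ (Rφ.obj K) ≫ adj.counit.app K)

lemma ω_ev (K : Dual.D R) :
    ω φ adj K ▷ _ ≫ DTen.ev ((DRing.restrictD φ).obj (𝟙_ (Dual.D A))) K =
      actR φ (Rφ.obj K) ≫ adj.counit.app K := by
  refine Eq.trans ?_ (((DTen.rhomAdj R ((DRing.restrictD φ).obj (𝟙_ (Dual.D A)))).homEquiv _ _).symm_apply_apply _)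
  exact ((DTen.rhomAdj R _).homEquiv_counit _ _ _).symm

theorem isIso_ω (K : Dual.D R) : IsIso (ω φ adj K) := by
  refine isIso_of_yoneda_map_bijective _ fun Y => ?_
  haveI := isIso_projMap φ Y (𝟙_ (Dual.D A))
  let e : Y ⊗ (DRing.restrictD φ).obj (𝟙_ (Dual.D A)) ≅ (DRing.restrictD φ).obj ((DTen.LBase φ).obj Y) :=
    asIso (projMap (DTen.baseAdj φ) Y (𝟙_ (Dual.D A))) ≪≫ (DRing.restrictD φ).mapIso (ρ_ _)
  let E : (Y ⟶ (DRing.restrictD φ).obj (Rφ.obj K)) ≃
      (Y ⟶ (DTen.RHomR R ((DRing.restrictD φ).obj (𝟙_ (Dual.D A)))).obj K) :=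
    ((DTen.baseAdj φ).homEquiv _ _).symm.trans ((adj.homEquiv _ _).symm.trans
      ((Iso.homFromEquiv e.symm).trans ((DTen.rhomAdj R _).homEquiv _ _)))
  have hE : (fun f : Y ⟶ (DRing.restrictD φ).obj (Rφ.obj K) => f ≫ ω φ adj K) = E := by
    funext f
    simp only [E, Equiv.trans_apply, Iso.homFromEquiv_apply, Iso.symm_inv]
    rw [ω, ← Adjunction.homEquiv_naturality_left, Adjunction.homEquiv_counit (adj := adj)]
    refine congrArg _ ?_
    simp only [e, Iso.trans_hom, asIso_hom, Functor.mapIso_hom, Category.assoc]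
    refine Eq.trans ?_ ((Category.assoc _ _ _).trans (congrArg (_ ≫ ·) (Category.assoc _ _ _)))
    refine (Category.assoc _ _ _).symm.trans (congrArg (· ≫ adj.counit.app K) ?_)
    exact (projMap_symm (DTen.baseAdj φ) f).symm
  rw [hE]
  exact E.bijective

end RHom

section Square

variable {R A R' A' : Type u} [CommRing R] [CommRing A] [CommRing R'] [CommRing A']
  {φ : R →+* A} {ρ : R →+* R'} {α : A →+* A'} {φ' : R' →+* A'} (h : α.comp φ = φ'.comp ρ)
  [DTen.HasLTen R] [DTen.HasLTen A] [DTen.HasLTen R'] [DTen.HasLTen A']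
  [DTen.HasLTen₃ R] [DTen.HasLTen₃ A] [DTen.HasLTen₃ R'] [DTen.HasLTen₃ A']
  [DTen.IsSymMonoidal R] [DTen.IsSymMonoidal A] [DTen.IsSymMonoidal R'] [DTen.IsSymMonoidal A']
  [DTen.HasLBase φ] [DTen.HasResTen φ] [DTen.ResLegIso φ]
  [DTen.HasLBase ρ] [DTen.HasResTen ρ] [DTen.ResLegIso ρ]
  [DTen.HasLBase α] [DTen.HasResTen α] [DTen.ResLegIso α]
  [DRing.HasLBaseChange ρ] [DRing.HasLBaseChange α]
  (adjρ : DRing.LBaseChange ρ ⊣ DRing.restrictD ρ) (adjα : DRing.LBaseChange α ⊣ DRing.restrictD α)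
  {Rφ : Dual.D R ⥤ Dual.D A} (adj : DRing.restrictD φ ⊣ Rφ)
  {Rφ' : Dual.D R' ⥤ Dual.D A'} (adj' : DRing.restrictD φ' ⊣ Rφ')

/-- the mate of the comparison -/
noncomputable def βm (M : Dual.D R') :
    (DRing.restrictD α).obj (Rφ'.obj M) ⟶ Rφ.obj ((DRing.restrictD ρ).obj M) :=
  adj.homEquiv _ _ ((TrivBC.resComm h).hom.app (Rφ'.obj M) ≫ (DRing.restrictD ρ).map (adj'.counit.app M))

theorem isIso_βm [∀ K : Dual.D A, IsIso (TrivBC.cmp adjρ adjα h K)] (M : Dual.D R') :
    IsIso (βm h adj adj' M) := by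
  refine isIso_of_yoneda_map_bijective _ fun Y => ?_
  let E : (Y ⟶ (DRing.restrictD α).obj (Rφ'.obj M)) ≃ (Y ⟶ Rφ.obj ((DRing.restrictD ρ).obj M)) :=
    (adjα.homEquiv _ _).symm.trans ((adj'.homEquiv _ _).symm.trans
      ((Iso.homFromEquiv (asIso (TrivBC.cmp adjρ adjα h Y)).symm).trans
        ((adjρ.homEquiv _ _).trans (adj.homEquiv _ _))))
  have hE : (fun f : Y ⟶ (DRing.restrictD α).obj (Rφ'.obj M) => f ≫ βm h adj adj' M) = E := by
    funext f
    obtain ⟨g, rfl⟩ := (adjα.homEquiv _ _).surjective f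
    simp only [E, Equiv.trans_apply, Equiv.symm_apply_apply, Iso.homFromEquiv_apply, Iso.symm_inv, asIso_hom]
    rw [βm, ← adj.homEquiv_naturality_left, adjα.homEquiv_unit, adj'.homEquiv_counit, adjρ.homEquiv_unit]
    refine congrArg _ ?_
    have e1 := (TrivBC.resComm h).hom.naturality g
    have h3 : adjρ.unit.app ((DRing.restrictD φ).obj Y) ≫ (DRing.restrictD ρ).map (TrivBC.cmp adjρ adjα h Y) =
        (DRing.restrictD φ).map (adjα.unit.app Y) ≫ (TrivBC.resComm h).hom.app _ :=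
      (adjρ.homEquiv_unit _ _ _).symm.trans ((adjρ.homEquiv _ _).apply_symm_apply _)
    dsimp at e1
    rw [Functor.map_comp, Functor.map_comp, Functor.map_comp, reassoc_of% h3, Category.assoc, reassoc_of% e1]
  rw [hE]
  exact E.bijective

/-- `R' ⊗ X ⟶ res L X` -/
noncomputable def θ' (X : Dual.D R) :
    (DRing.restrictD ρ).obj (𝟙_ (Dual.D R')) ⊗ X ⟶ (DRing.restrictD ρ).obj ((DRing.LBaseChange ρ).obj X) :=
  _ ◁ adjρ.unit.app X ≫ actL ρ ((DRing.LBaseChange ρ).obj X)

lemma θ'_natural {X Y : Dual.D R} (f : X ⟶ Y) :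
    _ ◁ f ≫ θ' adjρ Y = θ' adjρ X ≫ (DRing.restrictD ρ).map ((DRing.LBaseChange ρ).map f) := by
  have e := adjρ.unit.naturality f
  dsimp at e
  rw [θ', θ', ← MonoidalCategory.whiskerLeft_comp_assoc, e, MonoidalCategory.whiskerLeft_comp_assoc,
    actL_natural, Category.assoc]

theorem isIso_θ' (X : Dual.D R) : IsIso (θ' adjρ X) := by
  let e := ((DTen.baseAdj ρ).leftAdjointUniq adjρ).app X
  have h2 : (DTen.baseAdj ρ).unit.app X ≫ (DRing.restrictD ρ).map e.hom = adjρ.unit.app X :=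
    Adjunction.unit_leftAdjointUniq_hom_app _ _ _
  have h4 : projUnit (DTen.baseAdj ρ) X =
      _ ◁ (DTen.baseAdj ρ).unit.app X ≫ actL ρ ((DTen.LBase ρ).obj X) := rfl
  have h5 : θ' adjρ X = projUnit (DTen.baseAdj ρ) X ≫ (DRing.restrictD ρ).map e.hom := by
    rw [h4, θ', ← h2, MonoidalCategory.whiskerLeft_comp, Category.assoc, actL_natural, Category.assoc]
  haveI := isIso_projUnit ρ X
  rw [h5]
  infer_instance

/-- `R' ⊗ res X ⟶ res res L X` -/
noncomputable def Ψ (X : Dual.D A) :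
    (DRing.restrictD ρ).obj (𝟙_ (Dual.D R')) ⊗ (DRing.restrictD φ).obj X ⟶
      (DRing.restrictD φ).obj ((DRing.restrictD α).obj ((DRing.LBaseChange α).obj X)) :=
  _ ◁ (DRing.restrictD φ).map (adjα.unit.app X) ≫ bact h ((DRing.LBaseChange α).obj X)

lemma Ψ_comm (X : Dual.D A) :
    Ψ h adjα X ≫ (TrivBC.resComm h).hom.app _ =
      θ' adjρ ((DRing.restrictD φ).obj X) ≫ (DRing.restrictD ρ).map (TrivBC.cmp adjρ adjα h X) := by
  have h3 : adjρ.unit.app ((DRing.restrictD φ).obj X) ≫ (DRing.restrictD ρ).map (TrivBC.cmp adjρ adjα h X) =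
      (DRing.restrictD φ).map (adjα.unit.app X) ≫ (TrivBC.resComm h).hom.app _ :=
    (adjρ.homEquiv_unit _ _ _).symm.trans ((adjρ.homEquiv _ _).apply_symm_apply _)
  rw [Ψ, θ', bact]
  simp only [Category.assoc, Iso.inv_hom_id_app]
  erw [Category.comp_id]
  rw [← MonoidalCategory.whiskerLeft_comp_assoc, ← h3, ← actL_natural, MonoidalCategory.whiskerLeft_comp,
    Category.assoc]

lemma Ψ_actR (X : Dual.D A) :
    Ψ h adjα X ▷ _ ≫ actR φ ((DRing.restrictD α).obj ((DRing.LBaseChange α).obj X)) =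
      (α_ _ _ _).hom ≫ _ ◁ actR φ X ≫ Ψ h adjα X := by
  rw [Ψ, comp_whiskerRight, Category.assoc, bact_actR]
  dsimp only [Functor.id_obj, Functor.comp_obj]
  rw [associator_naturality_middle_assoc,
    ← MonoidalCategory.whiskerLeft_comp_assoc, actR_natural, MonoidalCategory.whiskerLeft_comp_assoc]

variable [DTen.HasRHom R] [∀ K : Dual.D A, IsIso (TrivBC.cmp adjρ adjα h K)]

/-- base change of trivial duality is an isomorphism exactly when evaluation is -/
theorem isIso_bcMap_iff (K : Dual.D R) (hc : IsIso (TrivBC.cmp adjρ adjα h (Rφ.obj K))) :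
    IsIso (TrivBC.bcMap adjρ adjα h adj adj' K hc) ↔
      IsIso (DTen.evalTen ((DRing.restrictD ρ).obj (DTen.unit R')) K ((DRing.restrictD φ).obj (DTen.unit A))) := by
  let B := (DRing.restrictD ρ).obj (𝟙_ (Dual.D R'))
  let O := (DRing.restrictD φ).obj (𝟙_ (Dual.D A))
  let X := Rφ.obj K
  let L := (DRing.LBaseChange ρ).obj K
  let b := TrivBC.bcMap adjρ adjα h adj adj' K hc
  let c := (DRing.restrictD α).map b ≫ βm h adj adj' L
  haveI := isIso_βm h adjρ adjα adj adj' L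
  haveI := isIso_ω φ adj K
  haveI := isIso_ω φ adj ((DRing.restrictD ρ).obj L)
  haveI := isIso_θ' adjρ K
  haveI := isIso_θ' adjρ ((DRing.restrictD φ).obj X)
  haveI hΨ : IsIso (Ψ h adjα X) := by
    have : IsIso (Ψ h adjα X ≫ (TrivBC.resComm h).hom.app _) := by
      rw [Ψ_comm h adjρ adjα X]; infer_instance
    exact IsIso.of_isIso_comp_right _ ((TrivBC.resComm h).hom.app _)
  have hb' : (DRing.restrictD φ').map b ≫ adj'.counit.app L =
      inv (TrivBC.cmp adjρ adjα h X) ≫ (DRing.LBaseChange ρ).map (adj.counit.app K) :=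
    (adj'.homEquiv_counit _ _ _).symm.trans ((adj'.homEquiv _ _).symm_apply_apply _)
  have hβ : (DRing.restrictD φ).map (βm h adj adj' L) ≫ adj.counit.app ((DRing.restrictD ρ).obj L) =
      (TrivBC.resComm h).hom.app (Rφ'.obj L) ≫ (DRing.restrictD ρ).map (adj'.counit.app L) :=
    (adj.homEquiv_counit _ _ _).symm.trans ((adj.homEquiv _ _).symm_apply_apply _)
  have hsq : Ψ h adjα X ≫ (DRing.restrictD φ).map c ≫ ω φ adj ((DRing.restrictD ρ).obj L) =
      B ◁ ω φ adj K ≫ DTen.evalTen B K O ≫ (DTen.RHomR R O).map (θ' adjρ K) := by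
    apply ((DTen.rhomAdj R O).homEquiv _ _).symm.injective
    rw [Adjunction.homEquiv_naturality_left_symm, Adjunction.homEquiv_naturality_left_symm,
      Adjunction.homEquiv_naturality_left_symm, Adjunction.homEquiv_naturality_right_symm,
      show ((DTen.rhomAdj R O).homEquiv _ _).symm (ω φ adj ((DRing.restrictD ρ).obj L)) = _ from
        Equiv.symm_apply_apply _ _]
    erw [show ((DTen.rhomAdj R O).homEquiv _ _).symm (DTen.evalTen B K O) = DTen.evalTenAux B K O from
        Equiv.symm_apply_apply _ _]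
    change Ψ h adjα X ▷ O ≫ (DRing.restrictD φ).map c ▷ O ≫ actR φ _ ≫ adj.counit.app _ =
      (B ◁ ω φ adj K) ▷ O ≫ ((α_ _ _ _).hom ≫ B ◁ DTen.ev O K) ≫ θ' adjρ K
    have e1 := (TrivBC.resComm h).hom.naturality b
    dsimp at e1
    rw [reassoc_of% (actR_natural φ c), reassoc_of% (Ψ_actR h adjα X), Category.assoc,
      associator_naturality_middle_assoc, ← MonoidalCategory.whiskerLeft_comp_assoc, ω_ev,
      MonoidalCategory.whiskerLeft_comp_assoc, θ'_natural]
    refine congrArg (fun t => (α_ _ _ _).hom ≫ B ◁ actR φ X ≫ t) ?_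
    change Ψ h adjα X ≫ (DRing.restrictD φ).map ((DRing.restrictD α).map b ≫ βm h adj adj' L) ≫ _ = _
    rw [Functor.map_comp, Category.assoc, hβ, reassoc_of% e1, ← Functor.map_comp, hb',
      reassoc_of% (Ψ_comm h adjρ adjα X), ← Functor.map_comp, IsIso.hom_inv_id_assoc]
  change IsIso b ↔ IsIso (DTen.evalTen B K O)
  constructor
  · intro hb
    have : IsIso c := inferInstanceAs (IsIso ((DRing.restrictD α).map b ≫ βm h adj adj' L))
    have h1 : IsIso (Ψ h adjα X ≫ (DRing.restrictD φ).map c ≫ ω φ adj ((DRing.restrictD ρ).obj L)) := inferInstance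
    rw [hsq] at h1
    have h2 : IsIso (DTen.evalTen B K O ≫ (DTen.RHomR R O).map (θ' adjρ K)) :=
      IsIso.of_isIso_comp_left (B ◁ ω φ adj K) _
    exact IsIso.of_isIso_comp_right _ ((DTen.RHomR R O).map (θ' adjρ K))
  · intro he
    have h1 : IsIso (B ◁ ω φ adj K ≫ DTen.evalTen B K O ≫ (DTen.RHomR R O).map (θ' adjρ K)) := inferInstance
    rw [← hsq] at h1
    have h2 : IsIso ((DRing.restrictD φ).map c ≫ ω φ adj ((DRing.restrictD ρ).obj L)) :=
      IsIso.of_isIso_comp_left (Ψ h adjα X) _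
    have h3 : IsIso ((DRing.restrictD φ).map c) :=
      IsIso.of_isIso_comp_right _ (ω φ adj ((DRing.restrictD ρ).obj L))
    have h4 : IsIso c := isIso_of_reflects_iso c (DRing.restrictD φ)
    have h5 : IsIso ((DRing.restrictD α).map b) := IsIso.of_isIso_comp_right _ (βm h adj adj' L)
    exact isIso_of_reflects_iso b (DRing.restrictD α)

end Square

end Groth.Agent.TrivDual
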