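import Groth.Agent.TrivDual.Core
import Groth.Agent.DTenMon.BC
import Groth.Agent.DRingKP.Tor

/-!
Base change comparison for tor independent squares.
-/

set_option autoImplicit false
set_option linter.style.haveILetI false
set_option linter.unusedSectionVars false
set_option backward.isDefEq.respectTransparency false
set_option backward.isDefEq.respectTransparency.types false
universe u

namespace Groth.Agent.TrivDual

open CategoryTheory Limits MonoidalCategory HomologicalComplex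
open Groth.Agent.DTenLib Groth.Agent.DTenMon

attribute [local instance] HasDerivedCategory.standard
attribute [local instance] monoidalD lBaseMonoidal restrictLax

section Square

variable {R A R' A' : Type u} [CommRing R] [CommRing A] [CommRing R'] [CommRing A']
  {φ : R →+* A} {ρ : R →+* R'} {α : A →+* A'} {φ' : R' →+* A'} (h : α.comp φ = φ'.comp ρ)

/-- `R' ⊗ A ⟶ A'` -/
noncomputable def mulMod :
    (DTen.resM ρ).obj (𝟙_ (ModuleCat.{u} R')) ⊗ (DTen.resM φ).obj (𝟙_ (ModuleCat.{u} A)) ⟶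
      (DTen.resM φ).obj ((DTen.resM α).obj (𝟙_ (ModuleCat.{u} A'))) :=
  ModuleCat.MonoidalCategory.tensorLift
    (fun b a => (α (show A from a) * φ' (show R' from b) : A'))
    (fun b₁ b₂ a => by
      change α (show A from a) * φ' ((show R' from b₁) + (show R' from b₂)) =
        α (show A from a) * φ' (show R' from b₁) + α (show A from a) * φ' (show R' from b₂)
      rw [map_add, mul_add])
    (fun r b a => by
      change α (show A from a) * φ' (ρ r * (show R' from b)) =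
        α (φ r) * (α (show A from a) * φ' (show R' from b))
      have e : α (φ r) = φ' (ρ r) := RingHom.congr_fun h r
      rw [e, map_mul, mul_left_comm])
    (fun b a₁ a₂ => by
      change α ((show A from a₁) + (show A from a₂)) * φ' (show R' from b) =
        α (show A from a₁) * φ' (show R' from b) + α (show A from a₂) * φ' (show R' from b)
      rw [map_add, add_mul])
    (fun r b a => by
      change α (φ r * (show A from a)) * φ' (show R' from b) =
        α (φ r) * (α (show A from a) * φ' (show R' from b))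
      rw [map_mul, mul_assoc])

/-- the product on unit complexes -/
noncomputable def κcx :
    (DTen.resCx ρ).obj (𝟙_ (DRing.Cx R')) ⊗ (DTen.resCx φ).obj (𝟙_ (DRing.Cx A)) ⟶
      (DTen.resCx φ).obj ((DTen.resCx α).obj (𝟙_ (DRing.Cx A'))) :=
  jcx h ▷ _ ≫ acx φ ((DTen.resCx α).obj (𝟙_ (DRing.Cx A')))

lemma ι_κcx :
    ιTensorObj ((DTen.resCx ρ).obj (𝟙_ (DRing.Cx R'))) ((DTen.resCx φ).obj (𝟙_ (DRing.Cx A))) 0 0 0 (add_zero 0) ≫
        (κcx h).f 0 =
      ((DTen.resM ρ).map (oneX R').hom ⊗ₘ (DTen.resM φ).map (oneX A).hom) ≫ mulMod h ≫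
        (DTen.resM φ).map ((DTen.resM α).map (oneX A').inv) := by
  rw [κcx, comp_f]
  erw [DTenLib.PreDual.ι_whiskerRight_f_assoc (jcx h) ((DTen.resCx φ).obj (𝟙_ (DRing.Cx A))) 0 0 0 (add_zero 0)]
  erw [ι_acx φ ((DTen.resCx α).obj (𝟙_ (DRing.Cx A'))) 0]
  refine ModuleCat.MonoidalCategory.tensor_ext fun b a => ?_
  refine (amod_tmul φ ((DTen.resCx α).obj (𝟙_ (DRing.Cx A'))) 0 _ a).trans ?_
  apply (ConcreteCategory.bijective_of_isIso (oneX A').hom).1
  refine ((oneX A').hom.hom.map_smul (α _) _).trans ?_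
  refine Eq.trans ?_ (Iso.inv_hom_id_apply (oneX A') _).symm
  exact congrArg (fun c : A' => α ((oneX A).hom.hom a) * c) (ones_f_apply φ' b)

omit [CommRing A] [CommRing R'] [CommRing A'] in
lemma shuffle {P X N' N M' M V : ModuleCat.{u} R} (i : N' ≅ N) (j : M' ≅ M)
    (a : P ⟶ X) (b : X ⟶ M) (q : P ⟶ M') (hq : q = a ≫ b ≫ j.inv) (e : M ⊗ N ⟶ V) :
    P ◁ i.inv ≫ q ▷ N' ≫ (j.hom ⊗ₘ i.hom) ≫ e = (a ≫ b) ▷ N ≫ e := by
  rw [hq, MonoidalCategory.tensorHom_def]
  simp only [Category.assoc]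
  rw [← comp_whiskerRight_assoc]
  simp only [Category.assoc, Iso.inv_hom_id, Category.comp_id]
  rw [← whisker_exchange_assoc, ← MonoidalCategory.whiskerLeft_comp_assoc, Iso.inv_hom_id,
    MonoidalCategory.whiskerLeft_id, Category.id_comp]

set_option maxHeartbeats 800000 in
/-- `R' ⊗ A → A'` is a derived tensor product. -/
theorem quasiIso_κ [IsIso (mulMod h)] (P : ProjectiveResolution ((DTen.resM ρ).obj (𝟙_ (ModuleCat.{u} R'))))
    (hT : ∀ p : ℕ, IsZero (((CategoryTheory.Tor (ModuleCat.{u} R) (p + 1)).obj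
      ((DTen.resM φ).obj (𝟙_ (ModuleCat.{u} A)))).obj ((DTen.resM ρ).obj (𝟙_ (ModuleCat.{u} R')))))
    (q : P.cochainComplex ⟶ (DTen.resCx ρ).obj (𝟙_ (DRing.Cx R')))
    (hq : q.f 0 = (DRingKP.resToSingle P).f 0 ≫ (singleObjXSelf (ComplexShape.up ℤ) 0 _).hom ≫
      (DTen.resM ρ).map (oneX R').inv) :
    QuasiIso (q ▷ (DTen.resCx φ).obj (𝟙_ (DRing.Cx A)) ≫ κcx h) := by
  let M := (DTen.resM ρ).obj (𝟙_ (ModuleCat.{u} R'))
  let N := (DTen.resM φ).obj (𝟙_ (ModuleCat.{u} A))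
  let sO : (HomologicalComplex.single _ (ComplexShape.up ℤ) 0).obj N ≅ (DTen.resCx φ).obj (𝟙_ (DRing.Cx A)) :=
    ((singleMapHomologicalComplex (DTen.resM φ) (ComplexShape.up ℤ) 0).app (𝟙_ (ModuleCat.{u} A))).symm
  have hsO : (singleObjXSelf (ComplexShape.up ℤ) 0 N).inv ≫ sO.hom.f 0 = (DTen.resM φ).map (oneX A).inv := by
    simp [sO, N, oneX]
  let Θ : (DRingKP.tR N).obj P.cochainComplex ≅ P.cochainComplex ⊗ (DTen.resCx φ).obj (𝟙_ (DRing.Cx A)) :=
    (DRingKP.tensSingleIso P.cochainComplex N).symm ≪≫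
      MonoidalCategory.whiskerLeftIso P.cochainComplex sO
  let g := q ▷ (DTen.resCx φ).obj (𝟙_ (DRing.Cx A)) ≫ κcx h
  suffices H : QuasiIso (Θ.hom ≫ g) from quasiIso_of_comp_left Θ.hom g
  rw [quasiIso_iff]
  intro i
  have hb : DRing.VanishesAbove P.cochainComplex 0 :=
    (CochainComplex.isStrictlyLE_iff _ 0).1 inferInstance
  have hX : ∀ j, 0 < j → IsZero (((DRingKP.tR N).obj P.cochainComplex).X j) := fun j hj =>
    (tensorRight N).map_isZero (hb j hj)
  have hD : ∀ j, j ≠ 0 → IsZero (((DTen.resCx φ).obj ((DTen.resCx α).obj (𝟙_ (DRing.Cx A')))).X j) :=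
    fun j hj => (DTen.resM φ).map_isZero (isZero_res_one α hj)
  by_cases hi : i = 0
  swap
  · rw [quasiIsoAt_iff_exactAt' _ _ (by
      rw [exactAt_iff_isZero_homology]
      exact ShortComplex.isZero_homology_of_isZero_X₂ _ (hD i hi))]
    rw [exactAt_iff_isZero_homology]
    rcases lt_or_gt_of_ne hi with hlt | hgt
    · obtain ⟨p, rfl⟩ : ∃ p : ℕ, i = -((p + 1 : ℕ) : ℤ) := ⟨(-i - 1).toNat, by lia⟩
      exact (DRingKP.isZero_tor_iff N M P p).1 (hT p)
    · exact ShortComplex.isZero_homology_of_isZero_X₂ _ (hX i hgt)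
  subst hi
  rw [quasiIsoAt_iff' _ (-1) 0 1 (by simp) (by simp), ShortComplex.quasiIso_iff_of_zeros' _
    ((hX 1 one_pos).eq_of_tgt _ _) ((hD (-1) (by lia)).eq_of_src _ _) ((hD 1 (by lia)).eq_of_tgt _ _)]
  let π : P.cochainComplex.X 0 ⟶ M :=
    (DRingKP.resToSingle P).f 0 ≫ (singleObjXSelf (ComplexShape.up ℤ) 0 M).hom
  let e₁ := mulMod h ≫ (DTen.resM φ).map ((DTen.resM α).map (oneX A').inv)
  have hg : (Θ.hom ≫ g).f 0 = π ▷ N ≫ e₁ := by
    simp only [g, comp_f, Θ, Iso.trans_hom]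
    dsimp [DRingKP.tensSingleIso, KFlat.singleXIso]
    rw [Category.assoc]
    erw [Category.assoc]
    erw [DTenLib.PreDual.ι_whiskerLeft_f_assoc P.cochainComplex sO.hom 0 0 0 (add_zero 0)]
    erw [DTenLib.PreDual.ι_whiskerRight_f_assoc q ((DTen.resCx φ).obj (𝟙_ (DRing.Cx A))) 0 0 0 (add_zero 0)]
    rw [← MonoidalCategory.whiskerLeft_comp_assoc]
    erw [ι_κcx h]
    rw [hsO]
    exact shuffle ((DTen.resM φ).mapIso (oneX A)) ((DTen.resM ρ).mapIso (oneX R')) _ _ _ hq e₁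
  haveI : Epi π := by
    dsimp only [π]
    have : Epi ((DRingKP.resToSingle P).f 0) := by
      change Epi (P.π'.f 0)
      rw [ProjectiveResolution.π'_f_zero]
      infer_instance
    infer_instance
  have hsurj : Function.Surjective π.hom := (ModuleCat.epi_iff_surjective π).1 inferInstance
  have hc : P.cochainComplex.d (-1) 0 ≫ π = 0 := by
    dsimp only [π]
    rw [← Category.assoc, ← (DRingKP.resToSingle P).comm (-1) 0]
    simp
  have hex : Function.Exact (P.cochainComplex.d (-1) 0).hom π.hom := by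
    have hS := (quasiIsoAt_iff' (DRingKP.resToSingle P) (-1) 0 1 (by simp) (by simp)).1
      ((quasiIso_iff _).1 inferInstance 0)
    rw [ShortComplex.quasiIso_iff_of_zeros' _ ((hb 1 one_pos).eq_of_tgt _ _)
      ((isZero_single_obj_X (ComplexShape.up ℤ) 0 M (-1) (by lia)).eq_of_src _ _)
      ((isZero_single_obj_X (ComplexShape.up ℤ) 0 M 1 (by lia)).eq_of_tgt _ _)] at hS
    have h2 := (ShortComplex.ShortExact.moduleCat_exact_iff_function_exact _).1 hS.1
    exact h2.comp_injective _ (ConcreteCategory.bijective_of_isIso (singleObjXSelf (ComplexShape.up ℤ) 0 M).hom).1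
      (map_zero _)
  constructor
  · rw [ShortComplex.ShortExact.moduleCat_exact_iff_function_exact]
    change Function.Exact _ ((Θ.hom ≫ g).f 0).hom
    rw [hg]
    exact (rTensor_exact N hex hsurj).comp_injective _
      (ConcreteCategory.bijective_of_isIso e₁).1 (map_zero _)
  · change Epi ((Θ.hom ≫ g).f 0)
    rw [hg]
    haveI : Epi (π ▷ N) := (ModuleCat.epi_iff_surjective _).2 (LinearMap.rTensor_surjective N hsurj)
    exact epi_comp _ _

variable [DTen.HasLTen R] [DTen.HasLTen A] [DTen.HasLTen R'] [DTen.HasLTen A']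
  [DTen.HasLTen₃ R] [DTen.HasLTen₃ A] [DTen.HasLTen₃ R'] [DTen.HasLTen₃ A']
  [DTen.IsSymMonoidal R] [DTen.IsSymMonoidal A] [DTen.IsSymMonoidal R'] [DTen.IsSymMonoidal A']
  [DTen.HasLBase φ] [DTen.HasResTen φ] [DTen.ResLegIso φ]
  [DTen.HasLBase ρ] [DTen.HasResTen ρ] [DTen.ResLegIso ρ]
  [DTen.HasLBase α] [DTen.HasResTen α] [DTen.ResLegIso α]

/-- `R' ⊗^L A ⟶ A'` -/
noncomputable def γ :
    (DTen.LBase φ).obj ((DRing.restrictD ρ).obj (𝟙_ (Dual.D R'))) ⟶
      (DRing.restrictD α).obj (𝟙_ (Dual.D A')) :=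
  ((DTen.baseAdj φ).homEquiv _ _).symm (jD h)

lemma unit_γ : (DTen.baseAdj φ).unit.app _ ≫ (DRing.restrictD φ).map (γ h) = jD h :=
  ((DTen.baseAdj φ).homEquiv_unit _ _ _).symm.trans (((DTen.baseAdj φ).homEquiv _ _).apply_symm_apply _)

/-- tor independence -/
theorem isIso_γ [IsIso (mulMod h)]
    (hT : ∀ p : ℕ, IsZero (((CategoryTheory.Tor (ModuleCat.{u} R) (p + 1)).obj
      ((DTen.resM φ).obj (𝟙_ (ModuleCat.{u} A)))).obj ((DTen.resM ρ).obj (𝟙_ (ModuleCat.{u} R'))))) :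
    IsIso (γ h) := by
  let M := (DTen.resM ρ).obj (𝟙_ (ModuleCat.{u} R'))
  let P := projectiveResolution M
  let s : (HomologicalComplex.single _ (ComplexShape.up ℤ) 0).obj M ≅ (DTen.resCx ρ).obj (𝟙_ (DRing.Cx R')) :=
    ((singleMapHomologicalComplex (DTen.resM ρ) (ComplexShape.up ℤ) 0).app (𝟙_ (ModuleCat.{u} R'))).symm
  let q := DRingKP.resToSingle P ≫ s.hom
  let O := (DTen.resCx φ).obj (𝟙_ (DRing.Cx A))
  let U := (DTen.resCx α).obj (𝟙_ (DRing.Cx A'))
  have hq : q.f 0 = (DRingKP.resToSingle P).f 0 ≫ (singleObjXSelf (ComplexShape.up ℤ) 0 _).hom ≫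
      (DTen.resM ρ).map (oneX R').inv := by
    simp [q, s, M, oneX]
  have h1 := quasiIso_κ h P hT q hq
  have hPk : DRing.IsKFlat R P.cochainComplex :=
    DRingKP.isKFlat_of_bounded (b := 0) ((CochainComplex.isStrictlyLE_iff _ 0).1 inferInstance)
      (DRingKP.flat_of_projective fun _ => inferInstance)
  have h2 : IsIso ((DTen.ε R).app (P.cochainComplex, O)) := isIso_ε_left hPk O
  haveI : IsIso (DerivedCategory.Q.map q) := by
    have : QuasiIso q := inferInstanceAs (QuasiIso (DRingKP.resToSingle P ≫ s.hom))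
    infer_instance
  have e : (DerivedCategory.Q.map q ⊗ₘ DerivedCategory.Q.map (𝟙 O)) ≫
      (DTen.ε R).app ((DTen.resCx ρ).obj (𝟙_ (DRing.Cx R')), O) ≫ DerivedCategory.Q.map (κcx h) =
      (DTen.ε R).app (P.cochainComplex, O) ≫ DerivedCategory.Q.map (q ▷ O ≫ κcx h) := by
    rw [reassoc_of% (ε_natural q (𝟙 O)), MonoidalCategory.tensorHom_id, ← Functor.map_comp]
  have h3 : IsIso ((DTen.ε R).app ((DTen.resCx ρ).obj (𝟙_ (DRing.Cx R')), O) ≫
      DerivedCategory.Q.map (κcx h)) := by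
    have : IsIso ((DerivedCategory.Q.map q ⊗ₘ DerivedCategory.Q.map (𝟙 O)) ≫
        (DTen.ε R).app ((DTen.resCx ρ).obj (𝟙_ (DRing.Cx R')), O) ≫ DerivedCategory.Q.map (κcx h)) := by
      rw [e]; infer_instance
    exact IsIso.of_isIso_comp_left (DerivedCategory.Q.map q ⊗ₘ DerivedCategory.Q.map (𝟙 O)) _
  have hκ : (jD h ▷ _ ≫ actR φ ((DRing.restrictD α).obj (𝟙_ (Dual.D A')))) ≫
      (Fz (φ := φ) (α := α) (𝟙_ (DRing.Cx A'))).hom =
      ((rf ρ (𝟙_ (DRing.Cx R'))).hom ⊗ₘ (rf φ (𝟙_ (DRing.Cx A))).hom) ≫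
        (DTen.ε R).app ((DTen.resCx ρ).obj (𝟙_ (DRing.Cx R')), O) ≫ DerivedCategory.Q.map (κcx h) := by
    have ha : actR φ ((DRing.restrictD α).obj (DerivedCategory.Q.obj (𝟙_ (DRing.Cx A')))) ≫
        (Fz (φ := φ) (α := α) (𝟙_ (DRing.Cx A'))).hom =
        ((Fz (φ := φ) (α := α) (𝟙_ (DRing.Cx A'))).hom ⊗ₘ (rf φ (𝟙_ (DRing.Cx A))).hom) ≫
          (DTen.ε R).app ((DTen.resCx φ).obj U, O) ≫ DerivedCategory.Q.map (acx φ U) := by
      simp only [Fz, Iso.trans_hom, Functor.mapIso_hom]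
      rw [← Category.assoc (actR _ _), ← actR_natural, Category.assoc, actR_Q, ← MonoidalCategory.tensorHom_id,
        tensorHom_comp_tensorHom_assoc, Category.id_comp]
    have hj : jD h ≫ (Fz (φ := φ) (α := α) (𝟙_ (DRing.Cx A'))).hom =
        (rf ρ (𝟙_ (DRing.Cx R'))).hom ≫ DerivedCategory.Q.map (jcx h) := by
      simp only [jD, Category.assoc]
      exact congrArg (_ ≫ ·) ((congrArg (_ ≫ ·) (Iso.inv_hom_id _)).trans (Category.comp_id _))
    rw [Category.assoc]
    refine (congrArg (_ ≫ ·) ha).trans ?_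
    rw [← MonoidalCategory.tensorHom_id (jD h), tensorHom_comp_tensorHom_assoc, Category.id_comp]
    refine (congrArg (fun t => (t ⊗ₘ (rf φ (𝟙_ (DRing.Cx A))).hom) ≫ _) hj).trans ?_
    rw [← Category.comp_id (rf φ (𝟙_ (DRing.Cx A))).hom, ← tensorHom_comp_tensorHom_assoc,
      ← CategoryTheory.Functor.map_id DerivedCategory.Q O, reassoc_of% (ε_natural (jcx h) (𝟙 O)),
      CategoryTheory.Functor.map_id, Category.comp_id, κcx, MonoidalCategory.tensorHom_id, ← Functor.map_comp]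
  have h4 : IsIso (jD h ▷ _ ≫ actR φ ((DRing.restrictD α).obj (𝟙_ (Dual.D A')))) := by
    have : IsIso ((jD h ▷ _ ≫ actR φ ((DRing.restrictD α).obj (𝟙_ (Dual.D A')))) ≫
        (Fz (φ := φ) (α := α) (𝟙_ (DRing.Cx A'))).hom) := by
      rw [hκ]; infer_instance
    exact IsIso.of_isIso_comp_right _ (Fz (φ := φ) (α := α) (𝟙_ (DRing.Cx A'))).hom
  have e5 : jD h ▷ _ ≫ actR φ ((DRing.restrictD α).obj (𝟙_ (Dual.D A'))) =
      (projMap (DTen.baseAdj φ) _ (𝟙_ (Dual.D A)) ≫ (DRing.restrictD φ).map (ρ_ _).hom) ≫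
        (DRing.restrictD φ).map (γ h) := by
    rw [← unit_γ h, comp_whiskerRight, Category.assoc, actR_natural, projMap, actR]
    simp only [Category.assoc]
  haveI := isIso_projMap φ ((DRing.restrictD ρ).obj (𝟙_ (Dual.D R'))) (𝟙_ (Dual.D A))
  have h6 : IsIso ((DRing.restrictD φ).map (γ h)) := by
    rw [e5] at h4
    exact IsIso.of_isIso_comp_left (projMap (DTen.baseAdj φ) _ (𝟙_ (Dual.D A)) ≫
      (DRing.restrictD φ).map (ρ_ _).hom) _
  exact isIso_of_reflects_iso (γ h) (DRing.restrictD φ)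

/-- the comparison, written over `R` -/
noncomputable def Φ (X : Dual.D A) :
    (DRing.restrictD ρ).obj (𝟙_ (Dual.D R')) ⊗ (DRing.restrictD φ).obj X ⟶
      (DRing.restrictD φ).obj ((DRing.restrictD α).obj ((DTen.LBase α).obj X)) :=
  _ ◁ (DRing.restrictD φ).map ((DTen.baseAdj α).unit.app X) ≫ bact h ((DTen.LBase α).obj X)

theorem isIso_Φ [IsIso (γ h)] (X : Dual.D A) : IsIso (Φ h X) := by
  have e : Φ h X = projMap (DTen.baseAdj φ) _ X ≫
      (DRing.restrictD φ).map (γ h ▷ X ≫ projUnit (DTen.baseAdj α) X) := by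
    rw [Φ, bact_eq, ← unit_γ h, comp_whiskerRight]
    simp only [Category.assoc]
    dsimp only [Functor.id_obj, Functor.comp_obj]
    rw [whisker_exchange_assoc, whisker_exchange_assoc, Functor.LaxMonoidal.μ_natural_right_assoc,
      Functor.LaxMonoidal.μ_natural_left_assoc, projMap, projUnit, actL, Category.assoc, ← Functor.map_comp,
      ← Functor.map_comp]
  haveI := isIso_projMap φ ((DRing.restrictD ρ).obj (𝟙_ (Dual.D R'))) X
  haveI := isIso_projUnit α X
  rw [e]
  infer_instance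

variable [DTen.HasLBase φ'] in
/-- the comparison -/
theorem isIso_cmp [DRing.HasLBaseChange ρ] [DRing.HasLBaseChange α] [IsIso (γ h)]
    (adjρ : DRing.LBaseChange ρ ⊣ DRing.restrictD ρ) (adjα : DRing.LBaseChange α ⊣ DRing.restrictD α)
    (K : Dual.D A) : IsIso (TrivBC.cmp adjρ adjα h K) := by
  let e := ((DTen.baseAdj ρ).leftAdjointUniq adjρ).app ((DRing.restrictD φ).obj K)
  let eα := ((DTen.baseAdj α).leftAdjointUniq adjα).app K
  let X := (DRing.restrictD φ).obj K
  have hc : Φ h K ≫ (DRing.restrictD φ).map ((DRing.restrictD α).map eα.hom) ≫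
      (TrivBC.resComm h).hom.app _ =
      (projUnit (DTen.baseAdj ρ) X ≫ (DRing.restrictD ρ).map e.hom) ≫
        (DRing.restrictD ρ).map (TrivBC.cmp adjρ adjα h K) := by
    have h1 : (DTen.baseAdj α).unit.app K ≫ (DRing.restrictD α).map eα.hom = adjα.unit.app K :=
      Adjunction.unit_leftAdjointUniq_hom_app _ _ _
    have h2 : (DTen.baseAdj ρ).unit.app X ≫ (DRing.restrictD ρ).map e.hom = adjρ.unit.app X :=
      Adjunction.unit_leftAdjointUniq_hom_app _ _ _
    have h3 : adjρ.unit.app X ≫ (DRing.restrictD ρ).map (TrivBC.cmp adjρ adjα h K) =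
        (DRing.restrictD φ).map (adjα.unit.app K) ≫ (TrivBC.resComm h).hom.app _ :=
      (adjρ.homEquiv_unit _ _ _).symm.trans ((adjρ.homEquiv _ _).apply_symm_apply _)
    have h4 : projUnit (DTen.baseAdj ρ) X =
        _ ◁ (DTen.baseAdj ρ).unit.app X ≫ actL ρ ((DTen.LBase ρ).obj X) := rfl
    rw [Φ, h4]
    simp only [Category.assoc]
    rw [← reassoc_of% (bact_natural h eα.hom), bact]
    simp only [Category.assoc, Iso.inv_hom_id_app]
    erw [Category.comp_id]
    rw [← MonoidalCategory.whiskerLeft_comp_assoc, ← Functor.map_comp, h1,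
      ← MonoidalCategory.whiskerLeft_comp_assoc, ← h3, ← Functor.map_comp, ← actL_natural,
      ← MonoidalCategory.whiskerLeft_comp_assoc, ← h2]
    simp only [Category.assoc, Functor.map_comp]
  haveI := isIso_Φ h K
  haveI := isIso_projUnit ρ X
  have : IsIso ((DRing.restrictD ρ).map (TrivBC.cmp adjρ adjα h K)) := by
    have : IsIso ((projUnit (DTen.baseAdj ρ) X ≫ (DRing.restrictD ρ).map e.hom) ≫
        (DRing.restrictD ρ).map (TrivBC.cmp adjρ adjα h K)) := by
      rw [← hc]; infer_instance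
    exact IsIso.of_isIso_comp_left (projUnit (DTen.baseAdj ρ) X ≫ (DRing.restrictD ρ).map e.hom) _
  exact isIso_of_reflects_iso _ (DRing.restrictD ρ)

end Square

end Groth.Agent.TrivDual
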