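import Groth.Agent.TrivDual.Cx
import Groth.Agent.DTenMon.BCFormal

/-!
The actions of two rings on derived restrictions.
-/

set_option autoImplicit false
set_option linter.style.haveILetI false
set_option linter.unusedSectionVars false
set_option backward.isDefEq.respectTransparency false
set_option backward.isDefEq.respectTransparency.types false
universe u

namespace Groth.Agent.TrivDual

open CategoryTheory Limits MonoidalCategory
open Groth.Agent.DTenLib Groth.Agent.DTenMon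

attribute [local instance] HasDerivedCategory.standard
attribute [local instance] monoidalD lBaseMonoidal restrictLax

local notation "QD" => DerivedCategory.Q

section One

variable {A : Type u} [CommRing A] [DTen.HasLTen A] [DTen.HasLTen₃ A] [DTen.IsSymMonoidal A]

lemma ε_natural {X X' Y Y' : DRing.Cx A} (f : X ⟶ X') (g : Y ⟶ Y') :
    ((DerivedCategory.Q.map f) ⊗ₘ (DerivedCategory.Q.map g)) ≫ (DTen.ε A).app (X', Y') =
      (DTen.ε A).app (X, Y) ≫ DerivedCategory.Q.map (f ⊗ₘ g) := by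
  rw [MonoidalCategory.tensorHom_def (f := f) (g := g)]
  exact (DTen.ε A).naturality (Prod.mkHom f g)

lemma ε_assoc (X Y Z : DRing.Cx A) :
    (DTen.ε A).app (X, Y) ▷ DerivedCategory.Q.obj Z ≫ (DTen.ε A).app (X ⊗ Y, Z) ≫
        DerivedCategory.Q.map (α_ X Y Z).hom =
      (α_ (DerivedCategory.Q.obj X) (DerivedCategory.Q.obj Y) (DerivedCategory.Q.obj Z)).hom ≫
        DerivedCategory.Q.obj X ◁ (DTen.ε A).app (Y, Z) ≫ (DTen.ε A).app (X, Y ⊗ Z) := by
  have h := congrArg (· ≫ (DTen.ε₃ A).app (X, (Y, Z))) (DTen.associator_hom_assocR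
    (DerivedCategory.Q.obj X) (DerivedCategory.Q.obj Y) (DerivedCategory.Q.obj Z))
  simp only [Category.assoc] at h
  exact (((congrArg ((DTen.associator _ _ _).hom ≫ ·)
    (DTen.assocR_fac A (X, (Y, Z)))).symm.trans h).trans (DTen.assocL_fac A (X, (Y, Z)))).symm

lemma rightUnitor_Q (K : DRing.Cx A) :
    (ρ_ (DerivedCategory.Q.obj K)).hom =
      (DTen.ε A).app (K, 𝟙_ (DRing.Cx A)) ≫ DerivedCategory.Q.map (ρ_ K).hom :=
  DTen.unitR_app A K

lemma leftUnitor_Q (K : DRing.Cx A) :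
    (λ_ (DerivedCategory.Q.obj K)).hom =
      (DTen.ε A).app (𝟙_ (DRing.Cx A), K) ≫ DerivedCategory.Q.map (λ_ K).hom :=
  DTen.unitL_app A K

end One

section Hom

variable {R A : Type u} [CommRing R] [CommRing A] (φ : R →+* A)
  [DTen.HasLTen R] [DTen.HasLTen A] [DTen.HasLTen₃ R] [DTen.HasLTen₃ A]
  [DTen.IsSymMonoidal R] [DTen.IsSymMonoidal A] [DTen.HasLBase φ] [DTen.HasResTen φ] [DTen.ResLegIso φ]

/-- restriction of the image of a complex -/
noncomputable abbrev rf (w : DRing.Cx A) :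
    (DRing.restrictD φ).obj (DerivedCategory.Q.obj w) ≅ DerivedCategory.Q.obj ((DTen.resCx φ).obj w) :=
  (DTen.resFactors φ).app w

lemma pair_fac (X Y Z : DRing.Cx A) (f : X ⊗ Y ⟶ Z) :
    Functor.LaxMonoidal.μ (DRing.restrictD φ) (DerivedCategory.Q.obj X) (DerivedCategory.Q.obj Y) ≫
        (DRing.restrictD φ).map ((DTen.ε A).app (X, Y) ≫ DerivedCategory.Q.map f) ≫ (rf φ Z).hom =
      ((rf φ X).hom ⊗ₘ (rf φ Y).hom) ≫ (DTen.ε R).app ((DTen.resCx φ).obj X, (DTen.resCx φ).obj Y) ≫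
        DerivedCategory.Q.map (DTen.resTenCx φ X Y ≫ (DTen.resCx φ).map f) := by
  have hn := (DTen.resFactors φ).hom.naturality f
  have hf := DTen.resPF_fac φ (X, Y)
  dsimp [DTen.resβA, DTen.resβB] at hn hf
  rw [μ_restrict, Functor.map_comp, Category.assoc]
  dsimp only [Iso.app_hom]
  rw [hn, reassoc_of% hf, Functor.map_comp]
  rfl

/-- right action -/
noncomputable def actR (W : Dual.D A) :
    (DRing.restrictD φ).obj W ⊗ (DRing.restrictD φ).obj (𝟙_ (Dual.D A)) ⟶ (DRing.restrictD φ).obj W :=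
  Functor.LaxMonoidal.μ (DRing.restrictD φ) W (𝟙_ (Dual.D A)) ≫ (DRing.restrictD φ).map (ρ_ W).hom

/-- left action -/
noncomputable def actL (W : Dual.D A) :
    (DRing.restrictD φ).obj (𝟙_ (Dual.D A)) ⊗ (DRing.restrictD φ).obj W ⟶ (DRing.restrictD φ).obj W :=
  Functor.LaxMonoidal.μ (DRing.restrictD φ) (𝟙_ (Dual.D A)) W ≫ (DRing.restrictD φ).map (λ_ W).hom

lemma actR_natural {W W' : Dual.D A} (f : W ⟶ W') :
    (DRing.restrictD φ).map f ▷ _ ≫ actR φ W' = actR φ W ≫ (DRing.restrictD φ).map f := by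
  rw [actR, actR, Functor.LaxMonoidal.μ_natural_left_assoc, Category.assoc, ← Functor.map_comp,
    ← Functor.map_comp, rightUnitor_naturality]

lemma actL_natural {W W' : Dual.D A} (f : W ⟶ W') :
    _ ◁ (DRing.restrictD φ).map f ≫ actL φ W' = actL φ W ≫ (DRing.restrictD φ).map f := by
  rw [actL, actL, Functor.LaxMonoidal.μ_natural_right_assoc, Category.assoc, ← Functor.map_comp,
    ← Functor.map_comp, leftUnitor_naturality]

lemma actR_Q (w : DRing.Cx A) :
    actR φ (DerivedCategory.Q.obj w) ≫ (rf φ w).hom =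
      ((rf φ w).hom ⊗ₘ (rf φ (𝟙_ (DRing.Cx A))).hom) ≫
        (DTen.ε R).app ((DTen.resCx φ).obj w, (DTen.resCx φ).obj (𝟙_ (DRing.Cx A))) ≫
          DerivedCategory.Q.map (acx φ w) := by
  rw [actR, Category.assoc]
  refine (congrArg (fun t => _ ≫ (DRing.restrictD φ).map t ≫ _) (rightUnitor_Q w)).trans ?_
  exact pair_fac φ w (𝟙_ (DRing.Cx A)) w (ρ_ w).hom

lemma actL_Q (w : DRing.Cx A) :
    actL φ (DerivedCategory.Q.obj w) ≫ (rf φ w).hom =
      ((rf φ (𝟙_ (DRing.Cx A))).hom ⊗ₘ (rf φ w).hom) ≫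
        (DTen.ε R).app ((DTen.resCx φ).obj (𝟙_ (DRing.Cx A)), (DTen.resCx φ).obj w) ≫
          DerivedCategory.Q.map (lacx φ w) := by
  rw [actL, Category.assoc]
  refine (congrArg (fun t => _ ≫ (DRing.restrictD φ).map t ≫ _) (leftUnitor_Q w)).trans ?_
  exact pair_fac φ (𝟙_ (DRing.Cx A)) w w (λ_ w).hom

end Hom

section Square

variable {R A R' A' : Type u} [CommRing R] [CommRing A] [CommRing R'] [CommRing A']
  {φ : R →+* A} {ρ : R →+* R'} {α : A →+* A'} {φ' : R' →+* A'} (h : α.comp φ = φ'.comp ρ)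

/-- the two restrictions of a complex -/
noncomputable def Fz (z : DRing.Cx A') :
    (DRing.restrictD φ).obj ((DRing.restrictD α).obj (DerivedCategory.Q.obj z)) ≅
      DerivedCategory.Q.obj ((DTen.resCx φ).obj ((DTen.resCx α).obj z)) :=
  (DRing.restrictD φ).mapIso (rf α z) ≪≫ rf φ ((DTen.resCx α).obj z)

lemma resComm_Q (z : DRing.Cx A') :
    (TrivBC.resComm h).hom.app (DerivedCategory.Q.obj z) ≫ (Fz (φ := ρ) (α := φ') z).hom =
      (Fz (φ := φ) (α := α) z).hom ≫ DerivedCategory.Q.map (cc h z).hom := by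
  rw [TrivBC.resComm, Localization.liftNatIso, Localization.liftNatTrans_app]
  dsimp [Localization.Lifting.iso, TrivBC.liftingRes₂, TrivBC.resCommCx, Fz]
  simp only [Category.id_comp, Category.comp_id, Category.assoc]
  have hcc : (cc h z).hom = (Functor.mapHomologicalComplexCompIso (TrivBC.resCommMod h) (ComplexShape.up ℤ)).hom.app z ≫
      (Functor.mapHomologicalComplexCompIso
        (Iso.refl (ModuleCat.restrictScalars.{u} φ' ⋙ ModuleCat.restrictScalars.{u} ρ)) (ComplexShape.up ℤ)).inv.app z := by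
    refine HomologicalComplex.hom_ext _ _ fun i => ?_
    refine ModuleCat.hom_ext (LinearMap.ext fun x => ?_)
    rfl
  rw [hcc, Functor.map_comp]
  have key : ∀ {B C E : Type u} [CommRing B] [CommRing C] [CommRing E] (g : C →+* E) (f : B →+* C)
      (x : DRing.Cx E), (TrivBC.liftingRes₂ g f).iso.hom.app x =
        (DRing.restrictD f).map ((DTen.resFactors g).hom.app x) ≫
          (DTen.resFactors f).hom.app ((DTen.resCx g).obj x) := fun g f x => by
    change ((Functor.associator _ _ _).symm ≪≫ Functor.isoWhiskerRight (DTen.resFactors g) _ ≪≫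
      Functor.associator _ _ _ ≪≫ Functor.isoWhiskerLeft _ (DTen.resFactors f)).hom.app x = _
    simp
  erw [key α φ z, ← key φ' ρ z]
  rw [Iso.inv_hom_id_app]
  erw [Category.comp_id]
  simp only [Category.assoc]

variable [DTen.HasLTen R] [DTen.HasLTen A] [DTen.HasLTen R'] [DTen.HasLTen A']
  [DTen.HasLTen₃ R] [DTen.HasLTen₃ A] [DTen.HasLTen₃ R'] [DTen.HasLTen₃ A']
  [DTen.IsSymMonoidal R] [DTen.IsSymMonoidal A] [DTen.IsSymMonoidal R'] [DTen.IsSymMonoidal A']
  [DTen.HasLBase φ] [DTen.HasResTen φ] [DTen.ResLegIso φ]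
  [DTen.HasLBase ρ] [DTen.HasResTen ρ] [DTen.ResLegIso ρ]
  [DTen.HasLBase α] [DTen.HasResTen α] [DTen.ResLegIso α]

/-- the action of `R'` -/
noncomputable def bact (Z : Dual.D A') :
    (DRing.restrictD ρ).obj (𝟙_ (Dual.D R')) ⊗ (DRing.restrictD φ).obj ((DRing.restrictD α).obj Z) ⟶
      (DRing.restrictD φ).obj ((DRing.restrictD α).obj Z) :=
  _ ◁ (TrivBC.resComm h).hom.app Z ≫ actL ρ ((DRing.restrictD φ').obj Z) ≫ (TrivBC.resComm h).inv.app Z

lemma bact_natural {Z Z' : Dual.D A'} (f : Z ⟶ Z') :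
    _ ◁ (DRing.restrictD φ).map ((DRing.restrictD α).map f) ≫ bact h Z' =
      bact h Z ≫ (DRing.restrictD φ).map ((DRing.restrictD α).map f) := by
  have e1 := (TrivBC.resComm h).hom.naturality f
  have e2 := (TrivBC.resComm h).inv.naturality f
  dsimp at e1 e2
  rw [bact, bact, ← MonoidalCategory.whiskerLeft_comp_assoc, e1, MonoidalCategory.whiskerLeft_comp_assoc]
  slice_lhs 2 3 => rw [actL_natural ρ ((DRing.restrictD φ').map f)]
  simp only [Category.assoc]
  erw [e2]

lemma bact_Q (z : DRing.Cx A') :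
    bact h (DerivedCategory.Q.obj z) ≫ (Fz (φ := φ) (α := α) z).hom =
      ((rf ρ (𝟙_ (DRing.Cx R'))).hom ⊗ₘ (Fz (φ := φ) (α := α) z).hom) ≫
        (DTen.ε R).app ((DTen.resCx ρ).obj (𝟙_ (DRing.Cx R')), (DTen.resCx φ).obj ((DTen.resCx α).obj z)) ≫
          DerivedCategory.Q.map (bcx h z) := by
  let B := (DTen.resCx ρ).obj (𝟙_ (DRing.Cx R'))
  have e0 := resComm_Q h z
  have e1 : (TrivBC.resComm h).inv.app (DerivedCategory.Q.obj z) ≫ (Fz (φ := φ) (α := α) z).hom =
      (Fz (φ := ρ) (α := φ') z).hom ≫ DerivedCategory.Q.map (cc h z).inv := by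
    rw [← cancel_mono (DerivedCategory.Q.map (cc h z).hom), Category.assoc, ← e0, Category.assoc,
      ← Functor.map_comp (DerivedCategory.Q), Iso.inv_hom_id, CategoryTheory.Functor.map_id, Category.comp_id]
    exact (TrivBC.resComm h).inv_hom_id_app_assoc _ _
  have e2 : actL ρ ((DRing.restrictD φ').obj (DerivedCategory.Q.obj z)) ≫ (Fz (φ := ρ) (α := φ') z).hom =
      ((rf ρ (𝟙_ (DRing.Cx R'))).hom ⊗ₘ (Fz (φ := ρ) (α := φ') z).hom) ≫
        (DTen.ε R).app (B, (DTen.resCx ρ).obj ((DTen.resCx φ').obj z)) ≫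
          DerivedCategory.Q.map (lacx ρ ((DTen.resCx φ').obj z)) := by
    rw [Fz, Iso.trans_hom, Functor.mapIso_hom, ← Category.assoc (actL _ _), ← actL_natural, Category.assoc,
      actL_Q, ← MonoidalCategory.id_tensorHom, tensorHom_comp_tensorHom_assoc, Category.id_comp]
  rw [bact, Category.assoc, Category.assoc, e1, reassoc_of% e2, ← MonoidalCategory.id_tensorHom,
    tensorHom_comp_tensorHom_assoc, Category.id_comp, e0,
    ← Category.comp_id (rf ρ (𝟙_ (DRing.Cx R'))).hom, ← tensorHom_comp_tensorHom_assoc,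
    ← CategoryTheory.Functor.map_id DerivedCategory.Q B, reassoc_of% (ε_natural (𝟙 B) (cc h z).hom),
    CategoryTheory.Functor.map_id, Category.comp_id, bcx, Functor.map_comp, Functor.map_comp,
    MonoidalCategory.id_tensorHom]

/-- `R' ⟶ A'` -/
noncomputable def jD : (DRing.restrictD ρ).obj (𝟙_ (Dual.D R')) ⟶
    (DRing.restrictD φ).obj ((DRing.restrictD α).obj (𝟙_ (Dual.D A'))) :=
  (rf ρ (𝟙_ (DRing.Cx R'))).hom ≫ DerivedCategory.Q.map (jcx h) ≫ (Fz (φ := φ) (α := α) (𝟙_ (DRing.Cx A'))).inv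

/-- the two actions commute -/
theorem bact_actR (Z : Dual.D A') :
    bact h Z ▷ _ ≫ actR φ ((DRing.restrictD α).obj Z) =
      (α_ _ _ _).hom ≫ _ ◁ actR φ ((DRing.restrictD α).obj Z) ≫ bact h Z := by
  suffices H : ∀ z : DRing.Cx A', bact h (DerivedCategory.Q.obj z) ▷ _ ≫
      actR φ ((DRing.restrictD α).obj (DerivedCategory.Q.obj z)) =
      (α_ _ _ _).hom ≫ _ ◁ actR φ ((DRing.restrictD α).obj (DerivedCategory.Q.obj z)) ≫
        bact h (DerivedCategory.Q.obj z) by
    let e := DerivedCategory.Q.objObjPreimageIso Z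
    let g := (DRing.restrictD φ).map ((DRing.restrictD α).map e.hom)
    rw [← cancel_epi (((DRing.restrictD ρ).obj (𝟙_ (Dual.D R')) ◁ g) ▷ (DRing.restrictD φ).obj (𝟙_ (Dual.D A))),
      ← comp_whiskerRight_assoc, bact_natural, comp_whiskerRight, Category.assoc, actR_natural,
      reassoc_of% (H _), associator_naturality_middle_assoc, ← MonoidalCategory.whiskerLeft_comp_assoc,
      actR_natural, MonoidalCategory.whiskerLeft_comp_assoc, bact_natural]
  intro z
  let B := (DTen.resCx ρ).obj (𝟙_ (DRing.Cx R'))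
  let O := (DTen.resCx φ).obj (𝟙_ (DRing.Cx A))
  let W := (DTen.resCx φ).obj ((DTen.resCx α).obj z)
  let F := (Fz (φ := φ) (α := α) z).hom
  let b := (rf ρ (𝟙_ (DRing.Cx R'))).hom
  let o := (rf φ (𝟙_ (DRing.Cx A))).hom
  have hb : bact h (DerivedCategory.Q.obj z) ≫ F =
      (b ⊗ₘ F) ≫ (DTen.ε R).app (B, W) ≫ DerivedCategory.Q.map (bcx h z) := bact_Q h z
  have ha : actR φ ((DRing.restrictD α).obj (DerivedCategory.Q.obj z)) ≫ F =
      (F ⊗ₘ o) ≫ (DTen.ε R).app (W, O) ≫ DerivedCategory.Q.map (acx φ ((DTen.resCx α).obj z)) := by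
    simp only [F, Fz, Iso.trans_hom, Functor.mapIso_hom]
    rw [← Category.assoc (actR _ _), ← actR_natural, Category.assoc, actR_Q, ← MonoidalCategory.tensorHom_id,
      tensorHom_comp_tensorHom_assoc, Category.id_comp]
  rw [← cancel_mono F]
  simp only [Category.assoc]
  rw [ha, hb, ← MonoidalCategory.tensorHom_id, tensorHom_comp_tensorHom_assoc, Category.id_comp, hb,
    ← MonoidalCategory.id_tensorHom, tensorHom_comp_tensorHom_assoc, Category.id_comp, ha]
  rw [show ((b ⊗ₘ F) ≫ (DTen.ε R).app (B, W) ≫ DerivedCategory.Q.map (bcx h z)) ⊗ₘ o =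
      ((b ⊗ₘ F) ⊗ₘ o) ≫ ((DTen.ε R).app (B, W) ▷ DerivedCategory.Q.obj O) ≫
        (DerivedCategory.Q.map (bcx h z) ⊗ₘ DerivedCategory.Q.map (𝟙 O)) by
    rw [CategoryTheory.Functor.map_id, ← MonoidalCategory.tensorHom_id, tensorHom_comp_tensorHom,
      tensorHom_comp_tensorHom, Category.comp_id, Category.comp_id]]
  simp only [Category.assoc]
  rw [reassoc_of% (ε_natural (bcx h z) (𝟙 O)), ← Functor.map_comp, MonoidalCategory.tensorHom_id,
    comm h z, Functor.map_comp, Functor.map_comp]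
  rw [reassoc_of% (ε_assoc B W O), associator_naturality_assoc]
  rw [show b ⊗ₘ ((F ⊗ₘ o) ≫ (DTen.ε R).app (W, O) ≫ DerivedCategory.Q.map (acx φ ((DTen.resCx α).obj z))) =
      (b ⊗ₘ (F ⊗ₘ o)) ≫ (DerivedCategory.Q.obj B ◁ (DTen.ε R).app (W, O)) ≫
        (DerivedCategory.Q.map (𝟙 B) ⊗ₘ DerivedCategory.Q.map (acx φ ((DTen.resCx α).obj z))) by
    rw [CategoryTheory.Functor.map_id, ← MonoidalCategory.id_tensorHom, tensorHom_comp_tensorHom,
      tensorHom_comp_tensorHom, Category.comp_id, Category.comp_id]]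
  simp only [Category.assoc]
  rw [reassoc_of% (ε_natural (𝟙 B) (acx φ ((DTen.resCx α).obj z))), MonoidalCategory.id_tensorHom]
  rfl

/-- the action of `R'` through `A'` -/
theorem bact_eq (Z : Dual.D A') :
    bact h Z = jD h ▷ _ ≫
      Functor.LaxMonoidal.μ (DRing.restrictD φ) ((DRing.restrictD α).obj (𝟙_ (Dual.D A')))
        ((DRing.restrictD α).obj Z) ≫ (DRing.restrictD φ).map (actL α Z) := by
  suffices H : ∀ z : DRing.Cx A', bact h (DerivedCategory.Q.obj z) = jD h ▷ _ ≫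
      Functor.LaxMonoidal.μ (DRing.restrictD φ) ((DRing.restrictD α).obj (𝟙_ (Dual.D A')))
        ((DRing.restrictD α).obj (DerivedCategory.Q.obj z)) ≫
          (DRing.restrictD φ).map (actL α (DerivedCategory.Q.obj z)) by
    let e := DerivedCategory.Q.objObjPreimageIso Z
    rw [← cancel_epi ((DRing.restrictD ρ).obj (𝟙_ (Dual.D R')) ◁
        (DRing.restrictD φ).map ((DRing.restrictD α).map e.hom)), bact_natural, H, whisker_exchange_assoc,
      Functor.LaxMonoidal.μ_natural_right_assoc, ← Functor.map_comp, actL_natural, Functor.map_comp]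
    simp only [Category.assoc]
  intro z
  let W := (DTen.resCx α).obj z
  let U := (DTen.resCx α).obj (𝟙_ (DRing.Cx A'))
  rw [← cancel_mono (Fz (φ := φ) (α := α) z).hom, bact_Q]
  simp only [Category.assoc]
  have e1 : (DRing.restrictD φ).map (actL α (DerivedCategory.Q.obj z)) ≫ (Fz (φ := φ) (α := α) z).hom =
      (DRing.restrictD φ).map ((rf α (𝟙_ (DRing.Cx A'))).hom ⊗ₘ (rf α z).hom) ≫
        (DRing.restrictD φ).map ((DTen.ε A).app (U, W) ≫ DerivedCategory.Q.map (lacx α z)) ≫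
          (rf φ W).hom := by
    rw [Fz, Iso.trans_hom, Functor.mapIso_hom, ← Functor.map_comp_assoc, ← Functor.map_comp_assoc, actL_Q]
  rw [e1, ← Functor.LaxMonoidal.μ_natural_assoc, pair_fac, bcx_eq, Functor.map_comp,
    ← MonoidalCategory.tensorHom_id (jD h), tensorHom_comp_tensorHom_assoc, Category.id_comp,
    tensorHom_comp_tensorHom_assoc]
  have e2 : (jD h ≫ (DRing.restrictD φ).map (rf α (𝟙_ (DRing.Cx A'))).hom) ≫ (rf φ U).hom =
      (rf ρ (𝟙_ (DRing.Cx R'))).hom ≫ DerivedCategory.Q.map (jcx h) := by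
    simp only [jD, Category.assoc]
    exact congrArg (_ ≫ ·) ((congrArg (_ ≫ ·) (Iso.inv_hom_id _)).trans (Category.comp_id _))
  rw [e2]
  change _ = ((_ ≫ _) ⊗ₘ (Fz (φ := φ) (α := α) z).hom) ≫ _
  rw [← Category.comp_id (Fz (φ := φ) (α := α) z).hom, ← tensorHom_comp_tensorHom_assoc,
    ← CategoryTheory.Functor.map_id DerivedCategory.Q ((DTen.resCx φ).obj W),
    reassoc_of% (ε_natural (jcx h) (𝟙 ((DTen.resCx φ).obj W))), CategoryTheory.Functor.map_id, Category.comp_id,
    MonoidalCategory.tensorHom_id]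

end Square

end Groth.Agent.TrivDual
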