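import Groth.Agent.DTenMon.Proj
import Groth.Prelude.Def_TrivBC

/-!
Actions of two rings on a complex over their tensor product.
-/

set_option autoImplicit false
set_option linter.style.haveILetI false
set_option backward.isDefEq.respectTransparency false
set_option backward.isDefEq.respectTransparency.types false
universe u

namespace Groth.Agent.TrivDual

open CategoryTheory Limits MonoidalCategory HomologicalComplex
open Groth.Agent.DTenLib

section Unitors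

variable {A : Type u} [CommRing A]

/-- the unit complex in degree zero -/
noncomputable abbrev oneX (A : Type u) [CommRing A] :
    (𝟙_ (DRing.Cx A)).X 0 ≅ 𝟙_ (ModuleCat.{u} A) :=
  singleObjXSelf (ComplexShape.up ℤ) 0 (𝟙_ (ModuleCat.{u} A))

lemma isZero_one {q : ℤ} (hq : q ≠ 0) : IsZero ((𝟙_ (DRing.Cx A)).X q) :=
  isZero_single_obj_X (ComplexShape.up ℤ) 0 (𝟙_ (ModuleCat.{u} A)) q hq

@[reassoc]
lemma ι_rightUnitor (K : DRing.Cx A) (n : ℤ) :
    ιTensorObj K (𝟙_ (DRing.Cx A)) n 0 n (add_zero n) ≫ (ρ_ K).hom.f n =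
      K.X n ◁ (oneX A).hom ≫ (ρ_ (K.X n)).hom := by
  have h := PreDual.rightUnitor_inv_f K n
  have h2 : (ρ_ K).inv.f n ≫ (ρ_ K).hom.f n = 𝟙 _ := by
    rw [← comp_f, Iso.inv_hom_id, id_f]
  rw [h, Category.assoc, Category.assoc, Iso.inv_comp_eq, Category.comp_id] at h2
  change (K.X n ◁ (oneX A).inv) ≫ _ = _ at h2
  rw [← h2, ← MonoidalCategory.whiskerLeft_comp_assoc, Iso.hom_inv_id, MonoidalCategory.whiskerLeft_id,
    Category.id_comp]
  rfl

@[reassoc]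
lemma ι_leftUnitor (K : DRing.Cx A) (n : ℤ) :
    ιTensorObj (𝟙_ (DRing.Cx A)) K 0 n n (zero_add n) ≫ (λ_ K).hom.f n =
      (oneX A).hom ▷ K.X n ≫ (λ_ (K.X n)).hom := by
  have h := PreDual.leftUnitor_inv_f K n
  have h2 : (λ_ K).inv.f n ≫ (λ_ K).hom.f n = 𝟙 _ := by
    rw [← comp_f, Iso.inv_hom_id, id_f]
  rw [h, Category.assoc, Category.assoc, Iso.inv_comp_eq, Category.comp_id] at h2
  change ((oneX A).inv ▷ K.X n) ≫ _ = _ at h2
  rw [← h2, ← comp_whiskerRight_assoc, Iso.hom_inv_id, id_whiskerRight, Category.id_comp]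
  rfl

end Unitors

section Single

variable {R A : Type u} [CommRing R] [CommRing A] (φ : R →+* A)

/-- the right action of `A` -/
noncomputable def acx (w : DRing.Cx A) :
    (DTen.resCx φ).obj w ⊗ (DTen.resCx φ).obj (𝟙_ (DRing.Cx A)) ⟶ (DTen.resCx φ).obj w :=
  DTen.resTenCx φ w (𝟙_ (DRing.Cx A)) ≫ (DTen.resCx φ).map (ρ_ w).hom

/-- the left action of `A` -/
noncomputable def lacx (w : DRing.Cx A) :
    (DTen.resCx φ).obj (𝟙_ (DRing.Cx A)) ⊗ (DTen.resCx φ).obj w ⟶ (DTen.resCx φ).obj w :=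
  DTen.resTenCx φ (𝟙_ (DRing.Cx A)) w ≫ (DTen.resCx φ).map (λ_ w).hom

/-- the module map of the right action -/
noncomputable def amod (w : DRing.Cx A) (n : ℤ) :
    (DTen.resM φ).obj (w.X n) ⊗ (DTen.resM φ).obj ((𝟙_ (DRing.Cx A)).X 0) ⟶ (DTen.resM φ).obj (w.X n) :=
  DTen.resTen₀app φ (w.X n) ((𝟙_ (DRing.Cx A)).X 0) ≫
    (DTen.resM φ).map (w.X n ◁ (oneX A).hom ≫ (ρ_ (w.X n)).hom)

/-- the module map of the left action -/
noncomputable def lamod (w : DRing.Cx A) (n : ℤ) :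
    (DTen.resM φ).obj ((𝟙_ (DRing.Cx A)).X 0) ⊗ (DTen.resM φ).obj (w.X n) ⟶ (DTen.resM φ).obj (w.X n) :=
  DTen.resTen₀app φ ((𝟙_ (DRing.Cx A)).X 0) (w.X n) ≫
    (DTen.resM φ).map ((oneX A).hom ▷ w.X n ≫ (λ_ (w.X n)).hom)

lemma amod_tmul (w : DRing.Cx A) (n : ℤ) (x : w.X n) (a : (𝟙_ (DRing.Cx A)).X 0) :
    (amod φ w n).hom (TensorProduct.tmul R (show (DTen.resM φ).obj (w.X n) from x)
        (show (DTen.resM φ).obj ((𝟙_ (DRing.Cx A)).X 0) from a)) =
      ((oneX A).hom.hom a : A) • x := rfl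

lemma lamod_tmul (w : DRing.Cx A) (n : ℤ) (x : w.X n) (a : (𝟙_ (DRing.Cx A)).X 0) :
    (lamod φ w n).hom (TensorProduct.tmul R (show (DTen.resM φ).obj ((𝟙_ (DRing.Cx A)).X 0) from a)
        (show (DTen.resM φ).obj (w.X n) from x)) =
      ((oneX A).hom.hom a : A) • x := rfl

@[reassoc]
lemma ι_acx (w : DRing.Cx A) (n : ℤ) :
    ιTensorObj ((DTen.resCx φ).obj w) ((DTen.resCx φ).obj (𝟙_ (DRing.Cx A))) n 0 n (add_zero n) ≫
      (acx φ w).f n = amod φ w n := by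
  rw [acx, comp_f]
  erw [DTen.ι_resTenCx_assoc φ w (𝟙_ (DRing.Cx A)) n 0 n (add_zero n)]
  rw [Functor.mapHomologicalComplex_map_f, ← Functor.map_comp, ι_rightUnitor]
  rfl

@[reassoc]
lemma ι_lacx (w : DRing.Cx A) (n : ℤ) :
    ιTensorObj ((DTen.resCx φ).obj (𝟙_ (DRing.Cx A))) ((DTen.resCx φ).obj w) 0 n n (zero_add n) ≫
      (lacx φ w).f n = lamod φ w n := by
  rw [lacx, comp_f]
  erw [DTen.ι_resTenCx_assoc φ (𝟙_ (DRing.Cx A)) w 0 n n (zero_add n)]
  rw [Functor.mapHomologicalComplex_map_f, ← Functor.map_comp, ι_leftUnitor]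
  rfl

lemma isZero_res_one {q : ℤ} (hq : q ≠ 0) : IsZero (((DTen.resCx φ).obj (𝟙_ (DRing.Cx A))).X q) :=
  (DTen.resM φ).map_isZero (isZero_one hq)

/-- the map of unit modules -/
noncomputable def onesMod :
    𝟙_ (ModuleCat.{u} R) ⟶ (DTen.resM φ).obj (𝟙_ (ModuleCat.{u} A)) :=
  ModuleCat.ofHom (Y := (DTen.resM φ).obj (𝟙_ (ModuleCat.{u} A)))
    { toFun := fun r => φ r
      map_add' := fun x y => map_add φ x y
      map_smul' := fun r x => map_mul φ r x }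

/-- the map of unit complexes -/
noncomputable def ones : 𝟙_ (DRing.Cx R) ⟶ (DTen.resCx φ).obj (𝟙_ (DRing.Cx A)) :=
  HomologicalComplex.mkHomFromSingle (onesMod φ ≫ (DTen.resM φ).map (oneX A).inv)
    (fun j hj => (isZero_res_one φ (by change (0 : ℤ) + 1 = j at hj; lia)).eq_of_tgt _ _)

lemma ones_f_apply (r : (𝟙_ (DRing.Cx R)).X 0) :
    ((oneX A).hom.hom (((ones φ).f 0).hom r) : A) = φ ((oneX R).hom.hom r) := by
  rw [ones]
  erw [HomologicalComplex.mkHomFromSingle_f]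
  exact Iso.inv_hom_id_apply (oneX A) _

end Single

section Square

variable {R A R' A' : Type u} [CommRing R] [CommRing A] [CommRing R'] [CommRing A']
  {φ : R →+* A} {ρ : R →+* R'} {α : A →+* A'} {φ' : R' →+* A'} (h : α.comp φ = φ'.comp ρ)

/-- the identification of the two restrictions on complexes -/
noncomputable def cc (z : DRing.Cx A') :
    (DTen.resCx φ).obj ((DTen.resCx α).obj z) ≅ (DTen.resCx ρ).obj ((DTen.resCx φ').obj z) :=
  Hom.isoOfComponents (fun i => (TrivBC.resCommMod h).app (z.X i))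
    (fun i j _ => ((TrivBC.resCommMod h).hom.naturality (z.d i j)).symm)

lemma cc_hom_apply (z : DRing.Cx A') (i : ℤ) (x : z.X i) :
    ((cc h z).hom.f i).hom (show (DTen.resM φ).obj ((DTen.resM α).obj (z.X i)) from x) = x := rfl

lemma cc_inv_apply (z : DRing.Cx A') (i : ℤ) (x : z.X i) :
    ((cc h z).inv.f i).hom (show (DTen.resM ρ).obj ((DTen.resM φ').obj (z.X i)) from x) = x := rfl

/-- the action of `R'` -/
noncomputable def bcx (z : DRing.Cx A') :
    (DTen.resCx ρ).obj (𝟙_ (DRing.Cx R')) ⊗ (DTen.resCx φ).obj ((DTen.resCx α).obj z) ⟶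
      (DTen.resCx φ).obj ((DTen.resCx α).obj z) :=
  (DTen.resCx ρ).obj (𝟙_ (DRing.Cx R')) ◁ (cc h z).hom ≫ lacx ρ ((DTen.resCx φ').obj z) ≫ (cc h z).inv

/-- `R' ⟶ A'` on unit complexes -/
noncomputable def jcx :
    (DTen.resCx ρ).obj (𝟙_ (DRing.Cx R')) ⟶ (DTen.resCx φ).obj ((DTen.resCx α).obj (𝟙_ (DRing.Cx A'))) :=
  (DTen.resCx ρ).map (ones φ') ≫ (cc h (𝟙_ (DRing.Cx A'))).inv

lemma ι_bcx_apply (z : DRing.Cx A') (n : ℤ) (b : (𝟙_ (DRing.Cx R')).X 0) (x : z.X n) :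
    (ιTensorObj ((DTen.resCx ρ).obj (𝟙_ (DRing.Cx R'))) ((DTen.resCx φ).obj ((DTen.resCx α).obj z))
        0 n n (zero_add n) ≫ (bcx h z).f n).hom
      (TensorProduct.tmul R (show (DTen.resM ρ).obj ((𝟙_ (DRing.Cx R')).X 0) from b)
        (show (DTen.resM φ).obj ((DTen.resM α).obj (z.X n)) from x)) =
      φ' ((oneX R').hom.hom b) • (show z.X n from x) := by
  rw [bcx]
  simp only [comp_f]
  erw [DTenLib.PreDual.ι_whiskerLeft_f_assoc _ (cc h z).hom 0 n n (zero_add n)]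
  erw [ι_lacx_assoc ρ ((DTen.resCx φ').obj z) n]
  rfl

set_option maxHeartbeats 1600000 in
theorem comm (z : DRing.Cx A') :
    bcx h z ▷ (DTen.resCx φ).obj (𝟙_ (DRing.Cx A)) ≫ acx φ ((DTen.resCx α).obj z) =
      (α_ _ _ _).hom ≫ (DTen.resCx ρ).obj (𝟙_ (DRing.Cx R')) ◁ acx φ ((DTen.resCx α).obj z) ≫ bcx h z := by
  refine hom_ext _ _ fun n => mapBifunctor₁₂.hom_ext (fun i j k hh => ?_)
  have h' : i + j + k = n := hh
  by_cases hk : k = 0
  swap
  · exact ((tensorLeft _).map_isZero (isZero_res_one φ hk)).eq_of_src _ _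
  by_cases hi : i = 0
  swap
  · exact (((tensorRight _).map_isZero ((tensorRight _).map_isZero (isZero_res_one ρ hi)))).eq_of_src _ _
  subst hk hi
  obtain rfl : j = n := by lia
  rw [mapBifunctor₁₂.ι_eq _ _ _ _ _ _ _ _ _ _ j _ (zero_add j) (add_zero j)]
  let B := (DTen.resCx ρ).obj (𝟙_ (DRing.Cx R'))
  let W := (DTen.resCx φ).obj ((DTen.resCx α).obj z)
  let O := (DTen.resCx φ).obj (𝟙_ (DRing.Cx A))
  change ((ιTensorObj B W 0 j j (zero_add j) ▷ O.X 0) ≫ ιTensorObj (B ⊗ W) O j 0 j (add_zero j)) ≫ _ =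
    ((ιTensorObj B W 0 j j (zero_add j) ▷ O.X 0) ≫ ιTensorObj (B ⊗ W) O j 0 j (add_zero j)) ≫ _
  simp only [comp_f, Category.assoc]
  erw [DTenLib.PreDual.ι_whiskerRight_f_assoc (bcx h z) O j 0 j (add_zero j)]
  erw [ι_acx φ ((DTen.resCx α).obj z) j]
  rw [← comp_whiskerRight_assoc]
  refine Eq.trans ?_
    (DTenLib.PreDual.ι_assoc_hom_assoc B W O 0 j 0 j j j (zero_add j) (add_zero j) (add_zero j) (zero_add j) _).symm
  refine Eq.trans ?_ (congrArg (fun t => (α_ (B.X 0) (W.X j) (O.X 0)).hom ≫ _ ≫ t)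
    (DTenLib.PreDual.ι_whiskerLeft_f_assoc B (acx φ ((DTen.resCx α).obj z)) 0 j j (zero_add j) _).symm)
  refine Eq.trans ?_ (congrArg ((α_ (B.X 0) (W.X j) (O.X 0)).hom ≫ ·)
    ((congrArg (fun t => B.X 0 ◁ t ≫ ιTensorObj B W 0 j j (zero_add j) ≫ (bcx h z).f j)
      (ι_acx φ ((DTen.resCx α).obj z) j).symm).trans (MonoidalCategory.whiskerLeft_comp_assoc _ _ _ _)))
  refine ModuleCat.MonoidalCategory.tensor_ext₃' fun b x a => ?_
  change (amod φ ((DTen.resCx α).obj z) j).hom (TensorProduct.tmul R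
      ((ιTensorObj B W 0 j j (zero_add j) ≫ (bcx h z).f j).hom (TensorProduct.tmul R b x)) a) =
    (ιTensorObj B W 0 j j (zero_add j) ≫ (bcx h z).f j).hom
      (TensorProduct.tmul R b ((amod φ ((DTen.resCx α).obj z) j).hom (TensorProduct.tmul R x a)))
  erw [ι_bcx_apply, ι_bcx_apply]
  exact smul_comm (α _ : A') (φ' _ : A') (show z.X j from x)

set_option maxHeartbeats 1600000 in
theorem bcx_eq (z : DRing.Cx A') :
    bcx h z = jcx h ▷ _ ≫
      DTen.resTenCx φ ((DTen.resCx α).obj (𝟙_ (DRing.Cx A'))) ((DTen.resCx α).obj z) ≫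
        (DTen.resCx φ).map (lacx α z) := by
  refine hom_ext _ _ fun n => mapBifunctor.hom_ext fun p q hh => ?_
  by_cases hp : p = 0
  swap
  · exact ((tensorRight _).map_isZero (isZero_res_one ρ hp)).eq_of_src _ _
  subst hp
  obtain rfl : q = n := by change (0 : ℤ) + q = n at hh; lia
  let B := (DTen.resCx ρ).obj (𝟙_ (DRing.Cx R'))
  let W := (DTen.resCx φ).obj ((DTen.resCx α).obj z)
  change ιTensorObj B W 0 q q hh ≫ (bcx h z).f q = ιTensorObj B W 0 q q hh ≫ _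
  simp only [comp_f, Category.assoc]
  erw [DTenLib.PreDual.ι_whiskerRight_f_assoc (jcx h) W 0 q q hh]
  erw [DTen.ι_resTenCx_assoc φ ((DTen.resCx α).obj (𝟙_ (DRing.Cx A'))) ((DTen.resCx α).obj z) 0 q q hh]
  rw [Functor.mapHomologicalComplex_map_f, ← Functor.map_comp, ι_lacx]
  refine ModuleCat.MonoidalCategory.tensor_ext fun b x => ?_
  refine (ι_bcx_apply h z q b x).trans ?_
  exact (congrArg (fun c : A' => c • (show z.X q from x)) (ones_f_apply φ' b)).symm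

end Square

end Groth.Agent.TrivDual
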